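import Groth.Agent.SurfStab.LMSimple
import Groth.Agent.CurveTraceDeg.Dual
import Groth.Agent.Lib.CurveDualPrep
import Groth.Agent.Lib.CurvePoint

/-!
# The generated part of a line bundle on a curve in a surface
-/

set_option linter.style.haveILetI false
set_option linter.unusedSectionVars false
set_option backward.isDefEq.respectTransparency false
set_option backward.isDefEq.respectTransparency.types false
set_option maxHeartbeats 1000000

universe u

open CategoryTheory CategoryTheory.Limits AlgebraicGeometry TopologicalSpace Opposite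

noncomputable section

namespace Groth.Agent.SurfStab

open Groth.Agent PnCoh.Finite

/-- The structure sheaf surjects onto that of a closed subscheme. -/
theorem epi_unitToPush {X C : Scheme.{u}} (i : C ⟶ X) [IsClosedImmersion i] : Epi (ClSub.unitToPush i) := by
  refine Preadditive.epi_of_isZero_cokernel _ (CurveCohLib.isZero_of_subsingleton_stalks fun x => ?_)
  let P := (Scheme.Modules.pushforward i).obj (Coh.structureModule C)
  haveI : Epi ((DerSch.stalkFunctor X x).map (ClSub.unitToPush i)) := by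
    refine (ModuleCat.epi_iff_surjective _).2 fun q => ?_
    obtain ⟨V, hxV, s, rfl⟩ := TopCat.Presheaf.exists_germ_eq P.presheaf q
    obtain ⟨_, ⟨W, hW, rfl⟩, hxW, hWV⟩ :=
      X.isBasis_affineOpens.exists_subset_of_mem_open (show x ∈ V from hxV) V.2
    have hle : W ≤ V := hWV
    obtain ⟨r, hr⟩ := i.app_surjective W (show IsAffineOpen W from hW)
      (show Γ(C, i ⁻¹ᵁ W) from P.presheaf.map (homOfLE hle).op s)
    refine ⟨(Coh.structureModule X).presheaf.germ W x hxW r, ?_⟩
    rw [← P.presheaf.germ_res_apply (homOfLE hle) x hxW s]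
    refine Eq.trans ?_ (congrArg (P.presheaf.germ W x hxW) hr)
    exact TopCat.Presheaf.stalkFunctor_map_germ_apply W x hxW
      ((Scheme.Modules.toPresheaf X).map (ClSub.unitToPush i)) r
  exact ModuleCat.subsingleton_of_isZero ((isZero_cokernel_of_epi
    ((DerSch.stalkFunctor X x).map (ClSub.unitToPush i))).of_iso
      (PreservesCokernel.iso (DerSch.stalkFunctor X x) (ClSub.unitToPush i)))

/-- Global sections of a morphism, read through `H^0`. -/
theorem equiv₀_mapLin {k : Type u} [Field k] {X : Scheme.{u}} [X.Over (Spec (CommRingCat.of k))] {M N : X.Modules}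
    (φ : M ⟶ N) (y : Coh.HH X M 0) :
    Sheaf.H.equiv₀ (Coh.toAb N) isTerminalTop (mapLin k φ 0 y) =
      φ.app ⊤ (Sheaf.H.equiv₀ (Coh.toAb M) isTerminalTop y) :=
  (Sheaf.H.equiv₀_naturality isTerminalTop ((QCoh.toAbFunctor X).map φ) y).symm

variable {k : Type u} [Field k] [IsAlgClosed k] {C : Scheme.{u}} [C.Over (Spec (CommRingCat.of k))] [IsIntegral C]
  [IsProper (C ↘ Spec (CommRingCat.of k))] [Smooth (C ↘ Spec (CommRingCat.of k))]
  (hC : topologicalKrullDim C = 1)

include hC in
/-- Images in a line bundle on a curve. -/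
theorem image_facts {F A : C.Modules} (hF : Coh.IsCoh F) (hA : PicF.IsInvertible A) (f : F ⟶ A) :
    Coh.IsCoh (Limits.image f) ∧ FlatMod.IsFinLocFree (Limits.image f) ∧
      Function.Injective (mapLin k (Limits.image.ι f) 0) := by
  haveI : IsNoetherian C := CurveCohLib.isNoetherian_of_proper (k := k)
  have hAc := AmpleVan.isCoh_invertible hA
  have hQ : Coh.IsCoh (cokernel f) := QCoh.isCoh_cokernel hF.1 hAc f
  have h : Coh.IsCoh (kernel (cokernel.π f)) := QCoh.isCoh_kernel hAc hQ (cokernel.π f)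
  let u : kernel (cokernel.π f) ≅ Limits.image f := Abelian.imageIsoImage f
  have hc : Coh.IsCoh (Limits.image f) :=
    QCoh.isCoh_of_mono u.inv h ((QCoh.isQCoh_iff_iso u).1 h.1)
  refine ⟨hc, CurveBundle.isFinLocFree_of_mono k hC.le hc (Limits.image.ι f)
    (H23.PullPush.isFinLocFree_of_isInvertible hA), LinearMap.ker_eq_bot.1 ?_⟩
  exact Euler.ker_mapLin_f_zero k
    (S := ShortComplex.mk (Limits.image.ι f) (cokernel.π (Limits.image.ι f)) (cokernel.condition _))
    (CurveSlope.shortExact_cokernel_of_mono (Limits.image.ι f))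

set_option maxHeartbeats 4000000 in
include hC in
/-- The subsheaf generated by the global sections of a line bundle. -/
theorem exists_generated_part {A : C.Modules} (hA : PicF.IsInvertible A)
    (h0 : Module.finrank k (Coh.HH C A 0) ≠ 0) :
    ∃ (A' : C.Modules) (ev : FlatMod.freeMod C (Module.finrank k (Coh.HH C A 0)) ⟶ A'),
      PicF.IsInvertible A' ∧ Epi ev ∧
      Module.finrank k (Coh.HH C A' 0) = Module.finrank k (Coh.HH C A 0) ∧
      Module.finrank k (Coh.HH C A 1) ≤ Module.finrank k (Coh.HH C A' 1) ∧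
      ∀ y : Coh.HH C A' 0, y ∈ Submodule.span k (Set.range fun j =>
        mapLin k (Sigma.ι (fun _ : Fin (Module.finrank k (Coh.HH C A 0)) => Coh.structureModule C) j ≫ ev) 0
          ((Sheaf.H.equiv₀ (Coh.toAb (Coh.structureModule C)) isTerminalTop).symm (H23.Frame.one ⊤))) := by
  classical
  haveI : IsNoetherian C := CurveCohLib.isNoetherian_of_proper (k := k)
  have hAc := AmpleVan.isCoh_invertible hA
  haveI := CurveCohLib.finite_HH (k := k) hAc 0
  let e := Module.finrank k (Coh.HH C A 0)
  let b := Module.finBasisOfFinrankEq k (Coh.HH C A 0) (rfl : _ = e)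
  let m : Fin e → (Coh.structureModule C ⟶ A) := fun j =>
    QCoh.homOfTop (Sheaf.H.equiv₀ (Coh.toAb A) isTerminalTop (b j))
  let ev₀ : FlatMod.freeMod C e ⟶ A := Sigma.desc m
  let A' := Limits.image ev₀
  let one₀ := (Sheaf.H.equiv₀ (Coh.toAb (Coh.structureModule C)) isTerminalTop).symm (H23.Frame.one ⊤)
  have hcf : Coh.IsCoh (FlatMod.freeMod C e) := (KZ.RankNilp.sigma_const (RefX.isCoh_unit (X := C)) e).1
  have hι : ∀ j, mapLin k (Limits.image.ι ev₀) 0 (mapLin k (Sigma.ι (fun _ : Fin e => Coh.structureModule C) j ≫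
      factorThruImage ev₀) 0 one₀) = b j := fun j => by
    apply (Sheaf.H.equiv₀ (Coh.toAb A) isTerminalTop).injective
    rw [equiv₀_mapLin, equiv₀_mapLin, AddEquiv.apply_symm_apply, ← ConcreteCategory.comp_apply,
      ← Scheme.Modules.Hom.comp_app, Category.assoc, image.fac, Sigma.ι_desc]
    refine (QCoh.homOfTop_app _ _).trans ?_
    show (1 : Γ(C, ⊤)) • _ = _
    rw [one_smul]
    exact AModX.res_self _
  obtain ⟨hA'c, hA'f, hinj⟩ := image_facts (k := k) hC hcf hA ev₀
  have hne : CurveBundle.rk A' ≠ 0 := fun hz => by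
    have hz' := CurveBundle.isZero_of_rk_zero hA'f hz
    haveI := Euler.subsingleton_HH_of_isZero hz' 0
    obtain ⟨j⟩ : Nonempty (Fin e) := ⟨⟨0, Nat.pos_of_ne_zero h0⟩⟩
    refine b.ne_zero j ?_
    rw [← hι j, Subsingleton.elim (mapLin k (Sigma.ι (fun _ : Fin e => Coh.structureModule C) j ≫
      factorThruImage ev₀) 0 one₀) 0, map_zero]
  have hr : CurveBundle.rk A' = CurveBundle.rk A := by
    have h := CurveSlope.rk_add_coh k _ _ _ (CurveSlope.shortExact_cokernel_of_mono (Limits.image.ι ev₀)) hAc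
    rw [CurveBundle.rk_eq (InvEnd.isFinLocFreeOfRank_one hA)] at h ⊢
    have hne' : CurveBundle.rk (Limits.image ev₀) ≠ 0 := hne
    show CurveBundle.rk (Limits.image ev₀) = 1
    omega
  have hA' : PicF.IsInvertible A' := CurveDuality.isInvertible_of_rank_one (by
    have h := CurveBundle.isFinLocFreeOfRank_rk hA'f
    rw [hr, CurveBundle.rk_eq (InvEnd.isFinLocFreeOfRank_one hA)] at h
    exact h)
  have hb : Function.Bijective (mapLin k (Limits.image.ι ev₀) 0) := ⟨hinj, fun y => by
    refine ⟨∑ j, b.repr y j • mapLin k (Sigma.ι (fun _ : Fin e => Coh.structureModule C) j ≫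
      factorThruImage ev₀) 0 one₀, ?_⟩
    simp only [map_sum, map_smul, hι]
    exact b.sum_repr y⟩
  have h0' : Module.finrank k (Coh.HH C A' 0) = e := (LinearEquiv.ofBijective _ hb).finrank_eq
  refine ⟨A', factorThruImage ev₀, hA', inferInstance, h0', ?_, fun y => ?_⟩
  · show _ ≤ Module.finrank k (Coh.HH C (Limits.image ev₀) 1)
    have h := CurveTraceDeg.euler_le_of_mono k hC.le hA'c hAc (Limits.image.ι ev₀) hr
    rw [CurveRR.euler_eq_h0_sub_h1 k hC.le hA'c.1, CurveRR.euler_eq_h0_sub_h1 k hC.le hAc.1, h0'] at h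
    omega
  · have hy : y = ∑ j, b.repr (mapLin k (Limits.image.ι ev₀) 0 y) j •
        mapLin k (Sigma.ι (fun _ : Fin e => Coh.structureModule C) j ≫ factorThruImage ev₀) 0 one₀ := by
      refine hinj ?_
      simp only [map_sum, map_smul, hι]
      exact (b.sum_repr _).symm
    rw [hy]
    exact Submodule.sum_mem _ fun j _ => Submodule.smul_mem _ _ (Submodule.subset_span ⟨j, rfl⟩)

variable {X : Scheme.{u}} [X.Over (Spec (CommRingCat.of k))] [IsIntegral X]
  [IsProper (X ↘ Spec (CommRingCat.of k))] [Smooth (X ↘ Spec (CommRingCat.of k))]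
  (i : C ⟶ X) [IsClosedImmersion i]
  (hi : i ≫ (X ↘ Spec (CommRingCat.of k)) = C ↘ Spec (CommRingCat.of k))

include hC hi in
/-- Evaluation from the surface onto the generated part. -/
theorem exists_lm_map {A : C.Modules} (hA : PicF.IsInvertible A) (h0 : Module.finrank k (Coh.HH C A 0) ≠ 0) :
    ∃ (A' : C.Modules) (lam : FlatMod.freeMod X (Module.finrank k (Coh.HH C A 0)) ⟶ (Coh.push i).obj A'),
      PicF.IsInvertible A' ∧ Epi lam ∧
      Function.Bijective (Sheaf.H.map ((SheafOfModules.toSheaf _).map lam) 0) ∧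
      Module.finrank k (Coh.HH C A' 0) = Module.finrank k (Coh.HH C A 0) ∧
      Module.finrank k (Coh.HH C A 1) ≤ Module.finrank k (Coh.HH C A' 1) := by
  classical
  haveI : IsNoetherian C := CurveCohLib.isNoetherian_of_proper (k := k)
  haveI : IsNoetherian X := CurveCohLib.isNoetherian_of_proper (k := k)
  obtain ⟨A', ev, hA', hev, h0', h1', hspan⟩ := exists_generated_part hC hA h0
  let e := Module.finrank k (Coh.HH C A 0)
  let push := Coh.push i
  haveI : PreservesFiniteColimits push := PushAmp.preservesFiniteColimits_push_closed i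
  haveI : push.Additive := by
    haveI := QCoh.preservesFiniteLimits_push i
    exact Functor.additive_of_preserves_binary_products _
  haveI := hev
  let OC := Coh.structureModule C
  let lam : FlatMod.freeMod X e ⟶ push.obj A' := Sigma.desc fun j =>
    ClSub.unitToPush i ≫ push.map (Sigma.ι (fun _ : Fin e => OC) j ≫ ev)
  have hepi : Epi lam := Preadditive.epi_of_cancel_zero _ fun g hg => by
    haveI := epi_unitToPush i
    have h2 : ∀ j, push.map (Sigma.ι (fun _ : Fin e => OC) j) ≫ push.map ev ≫ g = 0 := fun j => by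
      rw [← Category.assoc, ← Functor.map_comp, ← cancel_epi (ClSub.unitToPush i), Limits.comp_zero]
      have h3 := congrArg (fun φ => Sigma.ι (fun _ : Fin e => Coh.structureModule X) j ≫ φ) hg
      simp only [lam, Sigma.ι_desc_assoc, Limits.comp_zero, Category.assoc] at h3
      exact h3
    have h3 : push.map ev ≫ g = 0 := by
      refine (isColimitOfPreserves push (colimit.isColimit (Discrete.functor fun _ : Fin e => OC))).hom_ext fun j => ?_
      rw [Limits.comp_zero]
      exact h2 j.as
    haveI : Epi (push.map ev) := inferInstance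
    rw [← cancel_epi (push.map ev), h3, Limits.comp_zero]
  haveI := hepi
  refine ⟨A', lam, hA', hepi, ?_, h0', h1'⟩
  obtain ⟨p⟩ := PnCoh.exists_linearEquiv_push k i hi (AmpleVan.isCoh_invertible hA').1 0
  haveI := CurveCohLib.finite_HH (k := k) (AmpleVan.isCoh_invertible hA') 0
  haveI : Module.Finite k (Coh.HH X (push.obj A') 0) := Module.Finite.equiv p
  have hfin : Module.Finite k (Coh.HH X (FlatMod.freeMod X e) 0) :=
    CurveCohLib.finite_HH (k := k) (KZ.RankNilp.sigma_const (RefX.isCoh_unit (X := X)) e).1 0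
  have hd : Module.finrank k (Coh.HH X (FlatMod.freeMod X e) 0) = Module.finrank k (Coh.HH X (push.obj A') 0) := by
    rw [finrank_h0_free, CurveCohLib.finrank_h0_eq_one k X, mul_one, ← p.finrank_eq, h0']
  -- sections of the direct image
  let φ : Coh.HH C A' 0 → Coh.HH X (push.obj A') 0 := fun z =>
    (Sheaf.H.equiv₀ (Coh.toAb (push.obj A')) isTerminalTop).symm
      (show Γ(push.obj A', ⊤) from Sheaf.H.equiv₀ (Coh.toAb A') isTerminalTop z)
  have hgen : ∀ j, φ (mapLin k (Sigma.ι (fun _ : Fin e => OC) j ≫ ev) 0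
        ((Sheaf.H.equiv₀ (Coh.toAb OC) isTerminalTop).symm (H23.Frame.one ⊤))) =
      mapLin k lam 0 (mapLin k (Sigma.ι (fun _ : Fin e => Coh.structureModule X) j) 0
        ((Sheaf.H.equiv₀ (Coh.toAb (Coh.structureModule X)) isTerminalTop).symm (H23.Frame.one ⊤))) := fun j => by
    apply (Sheaf.H.equiv₀ (Coh.toAb (push.obj A')) isTerminalTop).injective
    simp only [φ, equiv₀_mapLin, AddEquiv.apply_symm_apply]
    rw [← ConcreteCategory.comp_apply (f := (Sigma.ι (fun _ : Fin e => Coh.structureModule X) j).app ⊤),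
      ← Scheme.Modules.Hom.comp_app, Sigma.ι_desc]
    show _ = (Sigma.ι (fun _ : Fin e => OC) j ≫ ev).app ⊤ (i.app ⊤ (1 : Γ(X, ⊤)))
    rw [map_one]
    rfl
  refine (show Function.Bijective (mapLin k lam 0) from ?_)
  have hsmul : ∀ (a : k) (z : Coh.HH C A' 0), φ (a • z) = a • φ z := fun a z => by
    apply (Sheaf.H.equiv₀ (Coh.toAb (push.obj A')) isTerminalTop).injective
    simp only [φ, AddEquiv.apply_symm_apply]
    refine (CurveCohLib.h0Equiv_smul A' a z).trans (Eq.symm ((CurveCohLib.h0Equiv_smul (push.obj A') a _).trans ?_))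
    rw [AddEquiv.apply_symm_apply]
    show i.app ⊤ (show Γ(X, ⊤) from Coh.resTop X (op ⊤) (Coh.toGlobal (X ↘ Spec (CommRingCat.of k)) a)) •
        (show Γ(A', i ⁻¹ᵁ ⊤) from Sheaf.H.equiv₀ (Coh.toAb A') isTerminalTop z) =
      (show Γ(C, i ⁻¹ᵁ ⊤) from Coh.resTop C (op ⊤) (Coh.toGlobal (C ↘ Spec (CommRingCat.of k)) a)) •
        (show Γ(A', i ⁻¹ᵁ ⊤) from Sheaf.H.equiv₀ (Coh.toAb A') isTerminalTop z)
    congr 1
    have hr : ∀ (Y : Scheme.{u}) (r : Γ(Y, ⊤)), (show Γ(Y, ⊤) from Coh.resTop Y (op ⊤) r) = r := fun Y r =>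
      ConcreteCategory.congr_hom (Y.presheaf.map_id (op ⊤)) r
    rw [hr, hr]
    have hg := congrArg (fun f => f.appTop ((Scheme.ΓSpecIso (CommRingCat.of k)).inv.hom a)) hi
    simp only [Scheme.Hom.comp_appTop, CommRingCat.comp_apply] at hg
    exact hg
  let Φ : Coh.HH C A' 0 →ₗ[k] Coh.HH X (push.obj A') 0 :=
    { toFun := φ
      map_add' := fun y z => by
        apply (Sheaf.H.equiv₀ (Coh.toAb (push.obj A')) isTerminalTop).injective
        simp only [φ, AddEquiv.apply_symm_apply, map_add]
      map_smul' := hsmul }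
  have hsurj : Function.Surjective (mapLin k lam 0) := by
    intro w
    obtain ⟨z, hz⟩ : ∃ z, Φ z = w := by
      refine ⟨(Sheaf.H.equiv₀ (Coh.toAb A') isTerminalTop).symm
        (show Γ(A', ⊤) from Sheaf.H.equiv₀ (Coh.toAb (push.obj A')) isTerminalTop w), ?_⟩
      apply (Sheaf.H.equiv₀ (Coh.toAb (push.obj A')) isTerminalTop).injective
      show Sheaf.H.equiv₀ (Coh.toAb (push.obj A')) isTerminalTop (φ _) = _
      simp only [φ, AddEquiv.apply_symm_apply]
    rw [← hz]
    have hle : Submodule.span k (Set.range fun j => mapLin k (Sigma.ι (fun _ : Fin e => OC) j ≫ ev) 0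
        ((Sheaf.H.equiv₀ (Coh.toAb OC) isTerminalTop).symm (H23.Frame.one ⊤))) ≤
        (LinearMap.range (mapLin k lam 0)).comap Φ := by
      rw [Submodule.span_le]
      rintro _ ⟨j, rfl⟩
      exact ⟨_, (hgen j).symm⟩
    exact hle (hspan z)
  exact ⟨(LinearMap.injective_iff_surjective_of_finrank_eq_finrank hd).2 hsurj, hsurj⟩

end Groth.Agent.SurfStab
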