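import Groth.Agent.S0605
import Groth.Agent.S2089
import Groth.Agent.AcycLib.Cochain
import Groth.Agent.LC.DepthExt
import Groth.Agent.Ref1X.FreeLow
import Groth.Agent.QCoh.LocFree
import Groth.Agent.QCoh.Support
import Groth.Agent.SchTop.Closed
import Groth.Agent.KZ.LFRes
import Groth.Prelude.Def_TorSh
import Groth.Agent.GrpSchLib.SmoothRegular
import Groth.Agent.PushAmp.ClosedStalk
import Groth.Agent.QCoh.DevissageP
import Groth.Agent.S14116
import Groth.Agent.RegLoc6.Normal

/-!
# Kernels of surjections from locally free sheaves on regular schemes of dimension at most two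
-/

set_option autoImplicit false
set_option linter.style.haveILetI false
set_option backward.isDefEq.respectTransparency false
set_option backward.isDefEq.respectTransparency.types false

universe u

open CategoryTheory CategoryTheory.Limits AlgebraicGeometry

noncomputable section

namespace Groth.Agent.SurfStab

open Groth.Agent

/-- Over a regular local ring of dimension at most two the kernel of a map from a free module
onto a module without socle is free. -/
theorem free_of_shortExact {R : Type u} [CommRing R] [IsRegularLocalRing R] (hdim : ringKrullDim R ≤ 2)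
    {S : ShortComplex (ModuleCat.{u} R)} (hS : S.ShortExact) [Module.Finite R S.X₁] [Module.Finite R S.X₂]
    [Module.Free R S.X₂]
    (hQ : ringKrullDim R = 2 → ∀ z : S.X₃, (∀ a ∈ IsLocalRing.maximalIdeal R, a • z = 0) → z = 0) :
    Module.Free R S.X₁ := by
  haveI : IsDomain R := RegLoc6.isDomain_of_isRegularLocalRing R
  haveI : IsIntegrallyClosed R := RegLoc6.isIntegrallyClosed_of_isRegularLocalRing R
  rcases eq_or_lt_of_le hdim with h2 | h2
  · rcases subsingleton_or_nontrivial S.X₁ with h1 | h1
    · exact Module.Free.of_subsingleton R S.X₁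
    haveI := Groth.Agent.LC.gorenstein_of_isRegularLocalRing (R := R)
    haveI hcm : LocCoh.IsCohenMacaulayLocalRing R := Groth.Agent.LC.isCohenMacaulayLocalRing_of_gorenstein
    have hR : LocCoh.depth R R = 2 := by
      have h := hcm.supportDim_eq_depth
      rw [Module.supportDim_self_eq_ringKrullDim, h2] at h
      exact WithBot.coe_injective h.symm
    refine S0605.result R S.X₁ (le_antisymm ?_ ?_)
    · obtain ⟨p, hp⟩ := associatedPrimes.nonempty R S.X₁
      exact (S2089.result p hp).trans (ringKrullDim_quotient_le p)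
    · rw [h2]
      have hge : ((2 : ℕ) : ℕ∞) ≤ LocCoh.depth R S.X₁ := by
        have hF : ((2 : ℕ) : ℕ∞) ≤ LocCoh.depth R S.X₂ :=
          le_trans (by rw [hR]; rfl) (S14116.depth_le_of_free R S.X₂)
        unfold LocCoh.depth at hF ⊢
        have hext := (LC.le_idealDepth_iff_ext (IsLocalRing.maximalIdeal R) S.X₂ 2).1 hF
        refine (LC.le_idealDepth_iff_ext (IsLocalRing.maximalIdeal R) S.X₁ 2).2 fun i hi => ?_
        rcases i with _ | i
        · have : Mono S.f := hS.mono_f
          exact LC.ext_zero_subsingleton_of_injective _ S.f (hext 0 (by omega))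
        · obtain rfl : i = 0 := by omega
          refine LC.ext_subsingleton_X₁ hS _ 0 (hext 1 (by omega)) (LC.ext_zero_subsingleton fun g => ?_)
          refine ModuleCat.hom_ext (LinearMap.ext fun q => ?_)
          obtain ⟨q, rfl⟩ := Ideal.Quotient.mk_surjective q
          refine hQ h2 _ fun a ha => ?_
          rw [← map_smul, Algebra.smul_def, Ideal.Quotient.algebraMap_eq, ← map_mul,
            Ideal.Quotient.eq_zero_iff_mem.2 (Ideal.mul_mem_right _ _ ha), map_zero]
      exact WithBot.coe_le_coe.2 hge
  · have hinj : Function.Injective S.f.hom := hS.moduleCat_injective_f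
    haveI : Module.IsTorsionFree R S.X₁ := hinj.moduleIsTorsionFree _ (fun r z => map_smul S.f.hom r z)
    exact Ref1X.free_of_dim_le_one (Order.le_of_lt_succ h2)

theorem isFinLocFree_kernel_of_socle {X : Scheme.{u}} [IsLocallyNoetherian X]
    (hreg : ∀ x : X, IsRegularLocalRing (X.presheaf.stalk x))
    (hdim : ∀ x : X, ringKrullDim (X.presheaf.stalk x) ≤ 2)
    {F N : X.Modules} (hF : FlatMod.IsFinLocFree F) (hN : Coh.IsCoh N) (f : F ⟶ N) [Epi f]
    (hQ : ∀ x : X, ringKrullDim (X.presheaf.stalk x) = 2 → ∀ z : N.presheaf.stalk x,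
      (∀ a ∈ IsLocalRing.maximalIdeal (X.presheaf.stalk x), a • z = 0) → z = 0) :
    FlatMod.IsFinLocFree (kernel f) := by
  have hFc : Coh.IsCoh F := ⟨QCoh.isQCoh_of_isFinLocFree hF, QCoh.isFT_of_isFP (QCoh.isFP_of_isFinLocFree hF)⟩
  have hK := QCoh.isCoh_kernel hFc hN f
  refine QCoh.isFinLocFree_iff.2 ⟨KZ.LFRes.isFP_of_isCoh hK, fun x => ?_⟩
  let S : ShortComplex X.Modules := ShortComplex.mk (kernel.ι f) f (kernel.condition f)
  have hS : S.ShortExact :=
    { exact := ShortComplex.exact_kernel f, mono_f := inferInstance, epi_g := ‹Epi f› }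
  haveI := hreg x
  let T := S.map (DerSch.stalkFunctor X x)
  haveI : Module.Finite (X.presheaf.stalk x) T.X₁ := QCoh.finite_stalk_of_isFT hK.1 hK.2 x
  haveI : Module.Finite (X.presheaf.stalk x) T.X₂ := QCoh.finite_stalk_of_isFT hFc.1 hFc.2 x
  haveI : Module.Free (X.presheaf.stalk x) T.X₂ := QCoh.free_stalk_of_isFinLocFree hF x
  exact free_of_shortExact (hdim x) (hS.map_of_exact (DerSch.stalkFunctor X x)) (hQ x)

/-- A point with two-dimensional local ring on a two-dimensional scheme is closed. -/
theorem isClosed_singleton_of_dim_two {X : Scheme.{u}} (hX : topologicalKrullDim X = 2) {x : X}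
    (hx : ringKrullDim (X.presheaf.stalk x) = 2) : IsClosed ({x} : Set X) := by
  refine isClosed_of_closure_subset fun y hy => ?_
  by_contra hne
  have hyx : x ⤳ y := specializes_iff_mem_closure.2 hy
  have hlt : y < x := lt_of_le_not_ge (show y ≤ x from hyx) (fun h => hne ((show y ⤳ x from h).antisymm hyx).eq)
  have h1 := Order.coheight_add_one_le hlt
  have h2 := (ringKrullDim_stalk_eq_coheight y).symm.le.trans ((SchTop.ringKrullDim_stalk_le y).trans hX.le)
  rw [ringKrullDim_stalk_eq_coheight] at hx
  have hx' : Order.coheight x = 2 := WithBot.coe_injective hx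
  have h2' : Order.coheight y ≤ 2 := WithBot.coe_le_coe.1 h2
  rw [hx'] at h1
  exact absurd (h1.trans h2') (by decide)

/-- Direct images of torsion free sheaves from an integral curve have no socle at closed points. -/
theorem push_socle {X C : Scheme.{u}} [IsIntegral C] (hX : topologicalKrullDim X = 2)
    (hC : topologicalKrullDim C = 1) (i : C ⟶ X) [IsClosedImmersion i]
    {M : C.Modules} (hM : Coh.IsQCoh M) (htf : TorSh.IsTorsionFree M) (x : X)
    (hx : ringKrullDim (X.presheaf.stalk x) = 2) (z : ((Coh.push i).obj M).presheaf.stalk x)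
    (hz : ∀ a ∈ IsLocalRing.maximalIdeal (X.presheaf.stalk x), a • z = 0) : z = 0 := by
  by_contra hne
  have hsupp : x ∈ CohB1.support ((Coh.push i).obj M) := fun h => hne (Subsingleton.elim z 0)
  obtain ⟨c, rfl⟩ := QCoh.support_push_subset i hM hsupp
  letI : Module (X.presheaf.stalk (i.base c)) (M.presheaf.stalk c) :=
    Module.compHom _ (i.stalkMap c).hom
  let e : ((Coh.push i).obj M).presheaf.stalk (i c) ≃ₗ[X.presheaf.stalk (i.base c)] M.presheaf.stalk c :=
    PushAmp.pushStalkEquiv i M c
  have hm : IsLocalRing.maximalIdeal (C.presheaf.stalk c) ≠ ⊥ := fun h => by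
    have h0 : ringKrullDim (C.presheaf.stalk c) = 0 :=
      ringKrullDim_eq_zero_of_isField (IsLocalRing.isField_iff_maximalIdeal_eq.2 h)
    rw [ringKrullDim_stalk_eq_coheight] at h0
    have hmax : IsMax c := Order.coheight_eq_zero.1 (WithBot.coe_injective h0)
    have hcl : closure ({c} : Set C) = Set.univ := by
      refine Set.eq_univ_of_univ_subset ((genericPoint_spec C).symm ▸ ?_)
      exact (IsClosed.closure_subset_iff isClosed_closure).2
        (Set.singleton_subset_iff.2 (specializes_iff_mem_closure.1 (hmax (genericPoint_specializes c))))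
    haveI : Subsingleton C := ⟨fun a b => i.isClosedEmbedding.injective ((?_ : i a = i c).trans (?_ : i b = i c).symm)⟩
    · have h1 : topologicalKrullDim C ≤ 0 := topologicalKrullDim_zero_of_discreteTopology C
      rw [hC] at h1
      exact absurd h1 (by decide)
    all_goals
      refine Set.mem_singleton_iff.1 ((isClosed_singleton_of_dim_two hX hx).closure_eq.le ?_)
      refine closure_mono (Set.image_singleton.le) (image_closure_subset_closure_image i.continuous ?_)
      rw [hcl]
      exact Set.mem_image_of_mem _ trivial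
  obtain ⟨a, ha, ha0⟩ := Submodule.exists_mem_ne_zero_of_ne_bot hm
  obtain ⟨b, rfl⟩ := i.stalkMap_surjective c a
  have hb : b ∈ IsLocalRing.maximalIdeal (X.presheaf.stalk (i.base c)) :=
    fun hu => ha (hu.map (i.stalkMap c).hom)
  have h1 : (i.stalkMap c).hom b • e z = 0 :=
    (map_smul e b z).symm.trans ((congrArg e (hz b hb)).trans (map_zero e))
  haveI := htf c
  exact hne (e.injective (((smul_eq_zero.1 h1).resolve_left ha0).trans (map_zero e).symm))

end Groth.Agent.SurfStab
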