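import Groth.Agent.SurfStab.Criterion
import Groth.Agent.QCoh.DevissageP
import Groth.Agent.PushAmp.ClosedStalk
import Groth.Agent.AmpleVan.Tower

/-!
# Line bundles on a curve in a surface
-/

set_option linter.style.haveILetI false
set_option linter.unusedSectionVars false
set_option backward.isDefEq.respectTransparency false
set_option backward.isDefEq.respectTransparency.types false

universe u

open CategoryTheory CategoryTheory.Limits AlgebraicGeometry Polynomial StabCat TopologicalSpace

noncomputable section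

namespace Groth.Agent.SurfStab

open Groth.Agent Groth.Agent.ShStabLib Groth.Agent.HilbPoly

variable {k : Type u} [Field k] {X : Scheme.{u}} [X.Over (Spec (CommRingCat.of k))]
  [IsProper (X ↘ Spec (CommRingCat.of k))] {L : X.Modules} [IsIntegral X]
  (hdim : topologicalKrullDim X = 2) {C : Scheme.{u}} [IsIntegral C] (hC : topologicalKrullDim C = 1)
  (i : C ⟶ X) [IsClosedImmersion i]

include hC in
theorem dim_range : topologicalKrullDim ↥(Set.range i.base) = 1 :=
  ((i.isClosedEmbedding.isEmbedding.toHomeomorph).symm.isHomeomorph.topologicalKrullDim_eq).trans hC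

include k hdim hC in
theorem coheight_image : Order.coheight (i (genericPoint C)) = 1 := by
  let f := X ↘ Spec (CommRingCat.of k)
  have hdeg : VarDim.deg f (i (genericPoint C)) = 1 := by
    have h := VarDim.topologicalKrullDim_closure_singleton f (i (genericPoint C))
    rw [← QCoh.range_eq_closure i, dim_range hC i] at h
    exact_mod_cast h.symm
  have hξ : VarDim.deg f (genericPoint X) = 2 := by
    have h := VarDim.topologicalKrullDim_eq_deg_genericPoint f
    rw [hdim] at h
    have h' : ((VarDim.deg f (genericPoint X) : ℕ) : WithBot ℕ∞) = ((2 : ℕ) : WithBot ℕ∞) := h.symm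
    exact_mod_cast h' 
  obtain ⟨b, hb, ⟨η, hη, hd⟩, hle⟩ := VarDim.exists_deg_add_stalk f (i (genericPoint C))
  have h1 := hle _ (genericPoint_specializes _)
  have h2 : VarDim.deg f η ≤ 2 := by
    have h := VarDim.topologicalKrullDim_closure_singleton f η
    have h' := topologicalKrullDim_subspace_le X (closure ({η} : Set X))
    rw [h, hdim] at h'
    have h'' : ((VarDim.deg f η : ℕ) : WithBot ℕ∞) ≤ ((2 : ℕ) : WithBot ℕ∞) := h'
    exact_mod_cast h''
  rw [ringKrullDim_stalk_eq_coheight] at hb
  obtain rfl : b = 1 := by omega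
  exact_mod_cast hb

include k hdim hC in
theorem push_invariants_zero (hL : CohB1.IsAmple L) {A : C.Modules} (hA : Coh.IsCoh A) :
    Coh.IsCoh ((Coh.push i).obj A) ∧ Tame 1 ((Coh.push i).obj A) ∧ a₂ k L ((Coh.push i).obj A) = 0 := by
  haveI : IsNoetherian X := CurveCohLib.isNoetherian_of_proper (k := k)
  have hc := QCoh.isCoh_push i hA
  have hd : topologicalKrullDim ↥(CohB1.support ((Coh.push i).obj A)) ≤ 1 :=
    (H23.TopDim.dim_le_dim_of_subset (QCoh.support_push_subset i hA.1)).trans (dim_range hC i).le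
  exact ⟨hc, ⟨hc, hd⟩, hp_alpha_eq_zero hL hc (lt_of_le_of_lt hd (by decide))⟩

/-- A map into the direct image of an invertible sheaf vanishing at the curve is zero. -/
theorem eq_zero_of_stalk [IsLocallyNoetherian C] {A : C.Modules} (hA : PicF.IsInvertible A)
    (w : Coh.structureModule X ⟶ (Coh.push i).obj A)
    (h : RefHull.stalkMapₗ w (i (genericPoint C)) (RefX.unitStalk (i (genericPoint C)) 1) = 0) : w = 0 := by
  let P : X.Modules := (Coh.push i).obj A
  rw [show RefX.unitStalk (i (genericPoint C)) 1 =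
    (Coh.structureModule X).presheaf.germ ⊤ (i (genericPoint C)) trivial (show Γ(Coh.structureModule X, ⊤) from (1 : Γ(X, ⊤)))
    from by simp [RefX.unitStalk], RefHull.stalkMapₗ_germ] at h
  obtain ⟨W, hW, i₁, i₂, he⟩ := P.presheaf.germ_eq (i (genericPoint C)) (U := ⊤) (V := ⊤) trivial trivial (w.app ⊤ (1 : Γ(X, ⊤))) 0
    (h.trans (map_zero _).symm)
  rw [map_zero] at he
  have hinj := fun y => Ref1X.gsp_injective (Div21Lib.isRef1_of_invertible hA).1 (Div21Lib.isRef1_of_invertible hA).2.1 y
  have h0 : (show Γ(A, i ⁻¹ᵁ ⊤) from w.app ⊤ (1 : Γ(X, ⊤))) = 0 := by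
    refine Ref1X.eq_of_germ_eta hinj (W := i ⁻¹ᵁ ⊤) (x := genericPoint C) trivial ?_
    rw [map_zero, ← A.presheaf.germ_res_apply (homOfLE (show i ⁻¹ᵁ W ≤ i ⁻¹ᵁ ⊤ from fun _ _ => trivial))
      (genericPoint C) hW]
    exact (congrArg (A.presheaf.germ (i ⁻¹ᵁ W) (genericPoint C) hW) (show _ = (0 : Γ(A, i ⁻¹ᵁ W)) from he)).trans
      (map_zero _)
  exact AmpleVan.one_injective (h0.trans rfl)

/-- A nonzero map into the direct image of an invertible sheaf is surjective at the curve. -/
theorem surjective_stalk [IsLocallyNoetherian C] {A : C.Modules} (hA : PicF.IsInvertible A)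
    (w : Coh.structureModule X ⟶ (Coh.push i).obj A) (hw : w ≠ 0) :
    Function.Surjective (RefHull.stalkMapₗ w (i (genericPoint C))) := by
  letI : Module (X.presheaf.stalk (i.base (genericPoint C))) (A.presheaf.stalk (genericPoint C)) :=
    Module.compHom _ (i.stalkMap (genericPoint C)).hom
  let e : ((Coh.push i).obj A).presheaf.stalk (i (genericPoint C)) ≃ₗ[X.presheaf.stalk (i.base (genericPoint C))]
      A.presheaf.stalk (genericPoint C) := PushAmp.pushStalkEquiv i A (genericPoint C)
  let w1 := RefHull.stalkMapₗ w (i (genericPoint C)) (RefX.unitStalk (i (genericPoint C)) 1)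
  have hw1 : e w1 ≠ 0 := fun h0 => hw (eq_zero_of_stalk i hA w (e.injective (h0.trans (map_zero e).symm)))
  obtain ⟨g, hg⟩ := Ref1X.exists_gen_eta (Div21Lib.isRef1_of_invertible hA).2.2
  intro v
  obtain ⟨d, hd⟩ := (Ref1X.one_dim hg hw1).2 (e v)
  obtain ⟨c, hc⟩ := i.stalkMap_surjective (genericPoint C) d
  refine ⟨c • RefX.unitStalk (i (genericPoint C)) 1, e.injective ?_⟩
  rw [map_smul]
  refine (map_smul e c w1).trans ?_
  show (i.stalkMap (genericPoint C)).hom c • e w1 = e v
  rw [hc]
  exact hd

/-- The ideal of the curve dies in the direct image. -/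
theorem ideal_comp_eq_zero {A : C.Modules} (w : Coh.structureModule X ⟶ (Coh.push i).obj A) :
    ClSub.idealModι i.ker ≫ w = 0 := by
  refine QCoh.hom_ext_app fun W t => ?_
  show w.app W ((ClSub.idealModι i.ker).app W t) = 0
  rw [InvX.app_eq_smul]
  have h0 : i.ker.subschemeι.app W ((ClSub.idealModι i.ker).app W t) = 0 :=
    ConcreteCategory.congr_hom (congrArg (fun φ => Scheme.Modules.Hom.app φ W)
      (show ClSub.idealModι i.ker ≫ ClSub.toSubscheme i.ker = 0 from kernel.condition _)) t
  have h1 : i.app W ((ClSub.idealModι i.ker).app W t) = 0 := by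
    rw [Scheme.Hom.congr_app i.toImage_imageι.symm W]
    show _ = (0 : Γ(C, i ⁻¹ᵁ W))
    simp only [Scheme.Hom.comp_app, CommRingCat.comp_apply]
    change ((C.presheaf.map _).hom ((i.toImage.app _).hom ((i.ker.subschemeι.app W).hom _))) = 0
    rw [show (i.ker.subschemeι.app W).hom ((ClSub.idealModι i.ker).app W t) = 0 from h0, map_zero, map_zero]
  show (show Γ(C, i ⁻¹ᵁ W) from i.app W ((ClSub.idealModι i.ker).app W t)) • _ = (0 : Γ(A, i ⁻¹ᵁ W))
  rw [h1]
  exact zero_smul _ _

include k hdim hC in
/-- The degree of a line bundle on a curve in the generating class is at most one unit. -/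
theorem push_a₁_le (hL : CohB1.IsAmple L) (hLinv : ClSub.IsInverseOf L (ClSub.idealMod i.ker))
    (hI : PicF.IsInvertible (ClSub.idealMod i.ker)) {A : C.Modules} (hA : PicF.IsInvertible A)
    (w : Coh.structureModule X ⟶ (Coh.push i).obj A) (hw : w ≠ 0) :
    a₁ k L ((Coh.push i).obj A) ≤ a₂ k L (Coh.structureModule X) := by
  haveI : IsNoetherian X := CurveCohLib.isNoetherian_of_proper (k := k)
  haveI : IsLocallyNoetherian C := LocallyOfFiniteType.isLocallyNoetherian i
  have hO := RefX.isCoh_unit (X := X)
  have hIc := AmpleVan.isCoh_invertible hI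
  obtain ⟨hPc, hPT, -⟩ := push_invariants_zero (k := k) hdim hC i hL (AmpleVan.isCoh_invertible hA)
  -- the invariants of the ideal
  obtain ⟨e⟩ := hLinv
  obtain ⟨c⟩ := H23.PicMul.comm (ClSub.idealMod i.ker) L
  obtain ⟨hT, t2, t1⟩ := twist_invariants (k := k) hL (tame_of_coh hdim hIc)
  obtain ⟨o2, o1⟩ := invariants_iso (k := k) hdim hL hT.coh (c ≪≫ e)
  obtain ⟨K, I, α, p, β, w', hfac, hα, hβ, hp', hse, hK, hIm⟩ := exists_factor (k := k) hO hPc w
  haveI := hα; haveI := hβ; haveI := hp'
  obtain ⟨-, eO1⟩ := invariants_add (k := k) hdim hL α p w' hse hK hO hIm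
  -- the kernel contains the ideal
  let j : ClSub.idealMod i.ker ⟶ K := hse.fIsKernel.lift (KernelFork.ofι (ClSub.idealModι i.ker) (by
    rw [← cancel_mono β, Category.assoc, hfac, ideal_comp_eq_zero i w, Limits.zero_comp]))
  have hj : j ≫ α = ClSub.idealModι i.ker := hse.fIsKernel.fac _ WalkingParallelPair.zero
  haveI : Mono (ClSub.idealModι i.ker) := by unfold ClSub.idealModι; infer_instance
  haveI : Mono j := mono_of_mono_fac hj
  have hI0 : ¬ IsZero (ClSub.idealMod i.ker) := fun hz => (pos_a₂_unit (k := k) hdim hL).ne'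
    (by rw [o2, t2]; exact (invariants_zero (k := k) hdim hL hIc hz).1)
  have hs : Function.Surjective (RefHull.stalkMapₗ j (genericPoint X)) := fun v => by
    obtain ⟨m, hm⟩ := surjective_eta_of_mono (k := k) InvX.isInvertible_structureModule (ClSub.idealModι i.ker)
      hI0 (RefHull.stalkMapₗ α _ v)
    rw [← hj, RefFun.stalkMapₗ_comp] at hm
    exact ⟨m, CurveBundle.stalkMap_injective α _ hm⟩
  obtain ⟨-, -, eK1, hn⟩ := invariants_of_mono hdim (k := k) hL hIc hK j hs
  -- the image has finite colength
  have hQc : Coh.IsCoh (cokernel β) := QCoh.isCoh_cokernel hIm.1 hPc β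
  have hQT : Tame 1 (cokernel β) := hPT.of_epi hQc (cokernel.π β)
  have hη : i (genericPoint C) ∉ CohB1.support (cokernel β) := fun hm => hm <| by
    refine subsingleton_of_forall_eq 0 fun y => ?_
    haveI := (DerSch.stalkFunctor X (i (genericPoint C))).map_epi (cokernel.π β)
    obtain ⟨v, rfl⟩ := (ModuleCat.epi_iff_surjective ((DerSch.stalkFunctor X (i (genericPoint C))).map (cokernel.π β))).1
      inferInstance y
    obtain ⟨r, rfl⟩ := surjective_stalk i hA w hw v
    have h0 : w ≫ cokernel.π β = 0 := by rw [← hfac, Category.assoc, cokernel.condition, Limits.comp_zero]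
    have h1 := LinearMap.congr_fun (congrArg (fun φ => RefHull.stalkMapₗ φ (i (genericPoint C))) h0) r
    rw [RefFun.stalkMapₗ_comp] at h1
    exact h1.trans (ConcreteCategory.congr_hom ((DerSch.stalkFunctor X (i (genericPoint C))).map_zero _ _) r)
  have hQ0 : a₁ k L (cokernel β) = 0 := by
    refine hp_alpha_eq_zero (d := 1) hL hQc ?_
    have hcl := QCoh.isClosed_support_of_ft hQc.2
    have hsub : CohB1.support (cokernel β) ⊆ Set.range i.base := fun x hx => by
      refine QCoh.support_push_subset i (AmpleVan.isCoh_invertible hA).1 fun hsub => hx ?_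
      haveI : Subsingleton ↑((DerSch.stalkFunctor X x).obj ((Coh.push i).obj A)) := hsub
      haveI := (DerSch.stalkFunctor X x).map_epi (cokernel.π β)
      exact ((ModuleCat.epi_iff_surjective ((DerSch.stalkFunctor X x).map (cokernel.π β))).1 inferInstance).subsingleton
    haveI : IsNoetherian C :=
      { __ := LocallyOfFiniteType.isLocallyNoetherian i
        __ := QuasiCompact.compactSpace_of_compactSpace i }
    have himg : i.base '' (i.base ⁻¹' CohB1.support (cokernel β)) = CohB1.support (cokernel β) :=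
      Set.image_preimage_eq_of_subset hsub
    have hlt := H23.TopDim.dim_lt_of_ssubset (X := C) (by rw [hC]; decide) (hcl.preimage i.continuous)
      (fun e => hη (show genericPoint C ∈ i.base ⁻¹' CohB1.support (cokernel β) from e ▸ Set.mem_univ _))
    rw [hC] at hlt
    rw [← himg, ← ((i.isClosedEmbedding.isEmbedding.homeomorphImage _).isHomeomorph.topologicalKrullDim_eq)]
    exact hlt
  obtain ⟨-, eP1⟩ := invariants_add (k := k) hdim hL β (cokernel.π β) (cokernel.condition β)
    { exact := ShortComplex.exact_cokernel β } hIm hPc hQc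
  rw [t2] at o2
  linarith

end Groth.Agent.SurfStab

end
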