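import Groth.Agent.SurfStab.FreeSub
import Groth.Agent.SurfStab.CurveSheaf
import Groth.Agent.SheafHomX.Main
import Groth.Agent.AVEuler.Split
import Groth.Agent.AmpleX.Rel
import Groth.Agent.H23.PicInv

/-!
# Stability of Lazarsfeld–Mukai bundles
-/

set_option linter.style.haveILetI false
set_option linter.unusedSectionVars false
set_option backward.isDefEq.respectTransparency false
set_option backward.isDefEq.respectTransparency.types false

universe u

open CategoryTheory CategoryTheory.Limits AlgebraicGeometry Polynomial StabCat TopologicalSpace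

noncomputable section

namespace Groth.Agent.SurfStab

open Groth.Agent Groth.Agent.ShStabLib Groth.Agent.HilbPoly

theorem isTorsionFree_of_injective {X : Scheme.{u}} [IsIntegral X] {F : X.Modules}
    (h : ∀ x, Function.Injective (Ref1X.gsp F x)) : TorSh.IsTorsionFree F := fun x =>
  (TorLib.isTorsionFree_iff F).2 fun a v hav => by
    letI : Field (X.presheaf.stalk (genericPoint X)) := inferInstanceAs (Field X.functionField)
    have h1 := congrArg (Ref1X.gsp F x) hav
    rw [Ref1X.sp_smul, map_zero] at h1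
    rcases smul_eq_zero.1 h1 with h2 | h2
    · exact Or.inl (Ref1X.spR_injective x (h2.trans (map_zero _).symm))
    · exact Or.inr (h x (h2.trans (map_zero _).symm))

variable {k : Type u} [Field k] {X : Scheme.{u}} [X.Over (Spec (CommRingCat.of k))]
  [IsProper (X ↘ Spec (CommRingCat.of k))] [IsIntegral X] (hdim : topologicalKrullDim X = 2)

include hdim in
theorem free_invariants {L : X.Modules} (hL : CohB1.IsAmple L) : ∀ n : ℕ, Coh.IsCoh (FlatMod.freeMod X n) ∧
    a₂ k L (FlatMod.freeMod X n) = n * a₂ k L (Coh.structureModule X) ∧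
    a₁ k L (FlatMod.freeMod X n) = n * a₁ k L (Coh.structureModule X)
  | 0 => by
    haveI : IsNoetherian X := CurveCohLib.isNoetherian_of_proper (k := k)
    have hc := (KZ.RankNilp.sigma_const (RefX.isCoh_unit (X := X)) 0).1
    obtain ⟨h2, h1⟩ := invariants_zero (k := k) hdim hL hc (freeMod_zero_isZero X)
    exact ⟨hc, by simpa using h2, by simpa using h1⟩
  | n + 1 => by
    haveI : IsNoetherian X := CurveCohLib.isNoetherian_of_proper (k := k)
    have hc := (KZ.RankNilp.sigma_const (RefX.isCoh_unit (X := X)) (n + 1)).1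
    obtain ⟨hn, h2, h1⟩ := free_invariants hL n
    obtain ⟨e2, e1⟩ := invariants_add (k := k) hdim hL (firstIn X n) (restOut X n) _ (splitting X n).shortExact
      RefX.isCoh_unit hc hn
    exact ⟨hc, by rw [e2, h2]; push_cast; ring, by rw [e1, h1]; push_cast; ring⟩

include hdim in
/-- Stability of the kernel of an evaluation map of a line bundle on a generating curve. -/
theorem lm_stable [Smooth (X ↘ Spec (CommRingCat.of k))] [PicGrp.Law X] {C : Scheme.{u}} [IsIntegral C]
    (hC : topologicalKrullDim C = 1) (i : C ⟶ X) [IsClosedImmersion i]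
    (hI : PicF.IsInvertible (ClSub.idealMod i.ker))
    (hgen : ∀ c : PicLoc.PicSet X, ∃ n : ℤ, c = PicGrp.cls (ClSub.idealMod i.ker) hI ^ n)
    {L : X.Modules} (hLinv : ClSub.IsInverseOf L (ClSub.idealMod i.ker)) (hL : CohB1.IsAmple L)
    {A : C.Modules} (hA : PicF.IsInvertible A) (e : ℕ)
    (lam : FlatMod.freeMod X e ⟶ (Coh.push i).obj A) [Epi lam]
    (hlam : Function.Injective (Sheaf.H.map ((SheafOfModules.toSheaf _).map lam) 0)) :
    Coh.IsCoh (kernel lam) ∧ (∀ x, Function.Injective (Ref1X.gsp (kernel lam) x)) ∧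
      ShStab.IsMuStable k X L (kernel lam) 2 := by
  haveI : IsNoetherian X := CurveCohLib.isNoetherian_of_proper (k := k)
  haveI : IsLocallyNoetherian C := LocallyOfFiniteType.isLocallyNoetherian i
  have hgen' : ∀ c : PicLoc.PicSet X, ∃ n : ℤ, c = PicGrp.cls L hL.1 ^ n := fun c => by
    obtain ⟨n, hn⟩ := hgen c
    have h : PicGrp.cls L hL.1 = (PicGrp.cls (ClSub.idealMod i.ker) hI)⁻¹ :=
      eq_inv_of_mul_eq_one_left ((PicGrp.cls_mul_cls_eq_one_iff hL.1 hI).2 hLinv)
    exact ⟨-n, by rw [h, inv_zpow, zpow_neg, inv_inv, hn]⟩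
  obtain ⟨hFr, f2, f1⟩ := free_invariants (k := k) hdim hL e
  obtain ⟨hP, hPT, hP2⟩ := push_invariants_zero (k := k) hdim hC i hL (AmpleVan.isCoh_invertible hA)
  have hF : Coh.IsCoh (kernel lam) := QCoh.isCoh_kernel hFr hP lam
  have hinj := gsp_injective_of_mono (kernel.ι lam) (free_gsp_injective e)
  obtain ⟨k2, k1⟩ := invariants_add (k := k) hdim hL (kernel.ι lam) lam (kernel.condition lam)
    { exact := ShortComplex.exact_kernel lam } hF hFr hP
  rw [f2, hP2, add_zero] at k2
  rw [f1] at k1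
  have ha := pos_a₂_unit (k := k) hdim hL
  have hP0 : ¬ IsZero ((Coh.push i).obj A) := fun hz => by
    have h1 := Functor.map_isZero (DerSch.stalkFunctor X (i (genericPoint C))) hz
    haveI : Subsingleton (((Scheme.Modules.pushforward i).obj A).presheaf.stalk (i (genericPoint C))) :=
      ModuleCat.subsingleton_of_isZero h1
    obtain ⟨g, hg⟩ := Ref1X.exists_gen_eta (Div21Lib.isRef1_of_invertible hA).2.2
    haveI : Subsingleton (A.presheaf.stalk (genericPoint C)) :=
      (PushAmp.pushStalkEquiv i A (genericPoint C)).symm.toEquiv.subsingleton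
    exact one_ne_zero (α := C.functionField) (hg.1 (a₁ := 1) (a₂ := 0) (Subsingleton.elim _ _))
  obtain ⟨j, hj⟩ : ∃ j : Fin e, Sigma.ι (fun _ : Fin e => Coh.structureModule X) j ≫ lam ≠ 0 := by
    by_contra hc
    push Not at hc
    have h0 : lam = 0 := Sigma.hom_ext _ _ fun j => by rw [hc j, Limits.comp_zero]
    exact hP0 (IsZero.of_epi_eq_zero lam h0)
  have he : 0 < e := j.pos
  have hA1 := push_a₁_le (k := k) hdim hC i hL hLinv hI hA _ hj
  have hA0 : 0 ≤ a₁ k L ((Coh.push i).obj A) := hp_alpha_nonneg hL hPT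
  have he' : (0 : ℚ) < e := by exact_mod_cast he
  have hne : ¬ IsZero (kernel lam) := fun hz => by
    rw [(invariants_zero (k := k) hdim hL hF hz).1] at k2
    nlinarith
  refine ⟨hF, hinj, isMuStable_of hdim hL hF hinj hne fun G ι hι hG hG0 hlt => ?_⟩
  haveI := hι
  obtain ⟨s, hs1, hs2, hs⟩ := sub_free hdim (k := k) hL hgen' e G (ι ≫ kernel.ι lam) inferInstance hG hG0
  rw [← k2, hs2] at hlt
  have hse : (s : ℚ) < e := lt_of_mul_lt_mul_right hlt ha.le
  have hs1' : (1 : ℚ) ≤ s := by exact_mod_cast hs1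
  rcases hs with hstrict | ⟨-, u, hu, hsat⟩
  · rw [← k2, hs2]
    have h1 : a₁ k L G * e < a₁ k L (kernel lam) * s := by
      have h2 : a₁ k L G * e + a₂ k L (Coh.structureModule X) * e ≤
          s * a₁ k L (Coh.structureModule X) * e := by nlinarith
      nlinarith [mul_le_mul_of_nonneg_left hA1 (le_trans zero_le_one hs1'), mul_lt_mul_of_pos_left hse ha]
    nlinarith
  exfalso
  have hw : u ≫ lam = 0 := by
    refine eq_zero_of_stalk i hA _ ?_
    obtain ⟨g, hg⟩ := hsat _ (Or.inr (coheight_image (k := k) hdim hC i))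
    rw [RefFun.stalkMapₗ_comp, LinearMap.comp_apply, ← hg, RefFun.stalkMapₗ_comp, LinearMap.comp_apply]
    exact ConcreteCategory.congr_hom (ShortComplex.zero (ShortComplex.map (ShortComplex.mk (kernel.ι lam) lam
      (kernel.condition lam)) (DerSch.stalkFunctor X (i (genericPoint C))))) _
  refine hu (SheafHomX.cls_injective (hlam ?_))
  rw [SheafHomX.map_cls, SheafHomX.map_cls, hw, Limits.zero_comp]

end Groth.Agent.SurfStab

end

namespace Groth.Agent.SurfStab

open Groth.Agent Groth.Agent.ShStabLib Groth.Agent.HilbPoly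

noncomputable section

theorem exists_ample_inverse {k : Type u} [Field k] {X : Scheme.{u}} [X.Over (Spec (CommRingCat.of k))]
    [IsProper (X ↘ Spec (CommRingCat.of k))] [IsIntegral X] (hdim : topologicalKrullDim X = 2)
    [PicGrp.Law X] {C : Scheme.{u}} (i : C ⟶ X) [IsClosedImmersion i]
    (hI : PicF.IsInvertible (ClSub.idealMod i.ker))
    (hgen : ∀ c : PicLoc.PicSet X, ∃ n : ℤ, c = PicGrp.cls (ClSub.idealMod i.ker) hI ^ n)
    {H : X.Modules} (hH : CohB1.IsAmple H) :
    ∃ L, ClSub.IsInverseOf L (ClSub.idealMod i.ker) ∧ CohB1.IsAmple L := by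
  haveI : IsNoetherian X := CurveCohLib.isNoetherian_of_proper (k := k)
  obtain ⟨D, hD, ⟨eD⟩⟩ := H23.PicInv.exists_inverse hI
  obtain ⟨cD⟩ := H23.PicMul.comm D (ClSub.idealMod i.ker)
  have hinv : PicGrp.cls D hD * PicGrp.cls (ClSub.idealMod i.ker) hI = 1 :=
    (PicGrp.cls_mul_cls_eq_one_iff hD hI).2 ⟨cD ≪≫ eD⟩
  refine ⟨D, ⟨cD ≪≫ eD⟩, ?_⟩
  have hO := RefX.isCoh_unit (X := X)
  obtain ⟨n, hn⟩ := hgen (PicGrp.cls H hH.1)
  obtain ⟨m, rfl | rfl⟩ := Int.eq_nat_or_neg n
  swap
  · rcases Nat.eq_zero_or_pos m with rfl | hm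
    · exfalso
      have h1 : PicGrp.cls H hH.1 = PicGrp.cls (CohB1.tensorPow D 0) (InvX.isInvertible_tensorPow hD 0) := by
        rw [ASB.cls_tensorPow hD, pow_zero]; simpa using hn
      obtain ⟨e0⟩ := ASB.iso_of_cls h1
      have hA : CohB1.IsAmple (Coh.structureModule X) := AmpleX.isAmple_of_iso e0 hH
      obtain ⟨hT, t2, t1⟩ := twist_invariants (k := k) hA (tame_of_coh hdim hO)
      obtain ⟨-, o1⟩ := invariants_iso (k := k) hdim hA hT.coh (CurveTensor.structureTensorIso (Coh.structureModule X))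
      have := pos_a₂_unit (k := k) hdim hA
      linarith
    · refine AmpleX.isAmple_of_tensorPow hD hm ?_
      have h1 : PicGrp.cls H hH.1 = PicGrp.cls (CohB1.tensorPow D m) (InvX.isInvertible_tensorPow hD m) := by
        rw [ASB.cls_tensorPow hD, hn, zpow_neg, zpow_natCast, ← inv_pow, eq_inv_of_mul_eq_one_left hinv]
      obtain ⟨e0⟩ := ASB.iso_of_cls h1
      exact AmpleX.isAmple_of_iso e0 hH
  · exfalso
    rcases Nat.eq_zero_or_pos m with rfl | hm
    · have h1 : PicGrp.cls H hH.1 = PicGrp.cls (CohB1.tensorPow D 0) (InvX.isInvertible_tensorPow hD 0) := by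
        rw [ASB.cls_tensorPow hD, pow_zero]; simpa using hn
      obtain ⟨e0⟩ := ASB.iso_of_cls h1
      have hA : CohB1.IsAmple (Coh.structureModule X) := AmpleX.isAmple_of_iso e0 hH
      obtain ⟨hT, t2, t1⟩ := twist_invariants (k := k) hA (tame_of_coh hdim hO)
      obtain ⟨-, o1⟩ := invariants_iso (k := k) hdim hA hT.coh (CurveTensor.structureTensorIso (Coh.structureModule X))
      have := pos_a₂_unit (k := k) hdim hA
      linarith
    · have h1 : PicGrp.cls H hH.1 = PicGrp.cls (CohB1.tensorPow (ClSub.idealMod i.ker) m)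
          (InvX.isInvertible_tensorPow hI m) := by
        rw [ASB.cls_tensorPow hI, hn, zpow_natCast]
      obtain ⟨e0⟩ := ASB.iso_of_cls h1
      have hA : CohB1.IsAmple (ClSub.idealMod i.ker) :=
        AmpleX.isAmple_of_tensorPow hI hm (AmpleX.isAmple_of_iso e0 hH)
      obtain ⟨hT, t2, t1⟩ := twist_invariants (k := k) hA (tame_of_coh hdim hO)
      obtain ⟨o2, o1⟩ := invariants_iso (k := k) hdim hA hT.coh (CurveTensor.structureTensorIso (ClSub.idealMod i.ker))
      have hpos := pos_a₂_unit (k := k) hdim hA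
      haveI : Mono (ClSub.idealModι i.ker) := by unfold ClSub.idealModι; infer_instance
      have hI0 : ¬ IsZero (ClSub.idealMod i.ker) := fun hz => by
        rw [(invariants_zero (k := k) hdim hA (AmpleVan.isCoh_invertible hI) hz).1, t2] at o2
        linarith
      obtain ⟨-, -, q1, q0⟩ := invariants_of_mono hdim (k := k) hA (AmpleVan.isCoh_invertible hI) hO
        (ClSub.idealModι i.ker)
        (surjective_eta_of_mono (k := k) InvX.isInvertible_structureModule (ClSub.idealModι i.ker) hI0)
      linarith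

end

end Groth.Agent.SurfStab
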