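import Groth.Agent.SurfStab.K3Basics
import Groth.Agent.SurfStab.KernelFree
import Groth.Agent.SurfStab.LM
import Groth.Agent.ExtShX.HomShLocFree
import Groth.Agent.ExtShX.Divisor
import Groth.Agent.AmpleDev.CurvesIn
import Groth.Agent.Lib.CurveTensor
import Groth.Agent.Lib.CurvePsi
import Groth.Agent.Lib.CurveRR
import Groth.Agent.Lib.P1Bundle
import Groth.Agent.Lib.PnDualSheafHom
import Groth.Agent.DivX.CodimOne
import Groth.Agent.S8914
import Groth.Agent.PushAmp.PushPC

/-!
# Euler characteristic of the endomorphisms of a Lazarsfeld–Mukai bundle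
-/

set_option linter.style.haveILetI false
set_option linter.unusedSectionVars false
set_option backward.isDefEq.respectTransparency false
set_option backward.isDefEq.respectTransparency.types false
set_option maxHeartbeats 1000000

universe u

open CategoryTheory CategoryTheory.Limits AlgebraicGeometry TopologicalSpace
open Groth.Agent.H23.PicMul

noncomputable section

namespace Groth.Agent.SurfStab

open Groth.Agent

/-- The ideal of an integral curve on a smooth surface is invertible. -/
theorem isInvertible_ideal {k : Type u} [Field k] {X : Scheme.{u}} [X.Over (Spec (CommRingCat.of k))]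
    [IsProper (X ↘ Spec (CommRingCat.of k))] [IsIntegral X] [Smooth (X ↘ Spec (CommRingCat.of k))]
    (hdim : topologicalKrullDim X = 2) {C : Scheme.{u}} [IsIntegral C] (hC : topologicalKrullDim C = 1)
    (i : C ⟶ X) [IsClosedImmersion i] : PicF.IsInvertible (ClSub.idealMod i.ker) := by
  haveI : IsNoetherian X := CurveCohLib.isNoetherian_of_proper (k := k)
  haveI : IsIso i.toImage := inferInstance
  haveI : Nonempty i.ker.subscheme := ⟨i.toImage (genericPoint C)⟩
  haveI : IsIntegral i.ker.subscheme := isIntegral_of_isOpenImmersion (inv i.toImage)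
  rw [S8914.result]
  refine DivX.isEffCartier_of_codim_one i.ker ?_ fun x _ => ?_
  · have hr : Set.range i.ker.subschemeι = Set.range i := by
      conv_rhs => rw [← i.toImage_imageι]
      rw [Scheme.Hom.comp_base, TopCat.coe_comp, Set.range_comp,
        (Set.range_eq_univ.2 i.toImage.homeomorph.surjective : Set.range i.toImage = Set.univ), Set.image_univ]
    have h1 := QCoh.range_eq_closure i.ker.subschemeι
    rw [hr, QCoh.range_eq_closure i] at h1
    rw [← (isGenericPoint_def.2 h1 : IsGenericPoint (i (genericPoint C)) _).eq (isGenericPoint_def.2 rfl),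
      ringKrullDim_stalk_eq_coheight, coheight_image (k := k) hdim hC i]
    rfl
  · haveI := GrpSchLib.isRegularLocalRing_stalk_of_smooth (X ↘ Spec (CommRingCat.of k)) x
    exact RegUFD.ufd (X.presheaf.stalk x)

variable {k : Type u} [Field k] {X : Scheme.{u}} [X.Over (Spec (CommRingCat.of k))] [IsIntegral X]
  [IsProper (X ↘ Spec (CommRingCat.of k))]

/-- An exact additive functor multiplies the Euler characteristic along free modules. -/
theorem euler_map_free (Φ : X.Modules ⥤ X.Modules) [Φ.PreservesZeroMorphisms]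
    (hΦ : ∀ {S : ShortComplex X.Modules}, S.ShortExact → (S.map Φ).ShortExact)
    (hc : ∀ {M : X.Modules}, Coh.IsCoh M → Coh.IsCoh (Φ.obj M)) : ∀ n : ℕ,
    Coh.IsCoh (FlatMod.freeMod X n) ∧ Curv2.euler k X (Φ.obj (FlatMod.freeMod X n)) =
      n * Curv2.euler k X (Φ.obj (Coh.structureModule X))
  | 0 => by
    haveI : IsNoetherian X := CurveCohLib.isNoetherian_of_proper (k := k)
    refine ⟨(KZ.RankNilp.sigma_const (RefX.isCoh_unit (X := X)) 0).1, ?_⟩
    rw [CurveSlope.euler_eq_zero_of_isZero k (Functor.map_isZero Φ (freeMod_zero_isZero X)), Nat.cast_zero,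
      zero_mul]
  | n + 1 => by
    haveI : IsNoetherian X := CurveCohLib.isNoetherian_of_proper (k := k)
    have hcn := (KZ.RankNilp.sigma_const (RefX.isCoh_unit (X := X)) (n + 1)).1
    obtain ⟨hn, he⟩ := euler_map_free Φ hΦ hc n
    refine ⟨hcn, ?_⟩
    let S : ShortComplex X.Modules := ShortComplex.mk (firstIn X n) (restOut X n) (firstIn_restOut X n)
    have h := Euler.euler_add k (hΦ (S := S) (splitting X n).shortExact) (hc RefX.isCoh_unit) (hc hcn) (hc hn)
    simp only [S, ShortComplex.map_X₁, ShortComplex.map_X₂, ShortComplex.map_X₃] at h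
    rw [h, he]
    push_cast
    ring

include k in
theorem rk_free : ∀ n : ℕ, CurveBundle.rk (FlatMod.freeMod X n) = n
  | 0 => CurveSlope.rk_eq_zero_of_isZero (freeMod_zero_isZero X)
  | n + 1 => by
    haveI : IsNoetherian X := CurveCohLib.isNoetherian_of_proper (k := k)
    rw [CurveSlope.rk_add_coh k (firstIn X n) (restOut X n) _ (splitting X n).shortExact
      (KZ.RankNilp.sigma_const (RefX.isCoh_unit (X := X)) (n + 1)).1, rk_free n,
      CurveBundle.rk_eq (InvEnd.isFinLocFreeOfRank_one InvX.isInvertible_structureModule), add_comm]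

variable (hdim : topologicalKrullDim X = 2) [Smooth (X ↘ Spec (CommRingCat.of k))] {N : ℕ}
  (ι : X ⟶ CohB1.ProjSpace N k) [IsClosedImmersion ι]
  (hι : ι ≫ CohB1.ProjSpace.toSpec N k = X ↘ Spec (CommRingCat.of k))
  (hK : Canon.IsTopDiff (X ↘ Spec (CommRingCat.of k)) 2 (Coh.structureModule X))

include hdim hι hK in
/-- The dual of a bundle on a K3 surface has the same Euler characteristic. -/
theorem euler_hom_structure {F : X.Modules} (hF : FlatMod.IsFinLocFree F) :
    Curv2.euler k X ((SheafHomX.hom F).obj (Coh.structureModule X)) = Curv2.euler k X F := by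
  haveI : IsNoetherian X := CurveCohLib.isNoetherian_of_proper (k := k)
  haveI := smoothOfRelativeDimension_two (k := k) hdim
  have hFc : Coh.IsCoh F := CurveDeg.isCoh_of_isFinLocFree hF
  have h : ∀ p : ℕ, p ≤ 2 → Module.finrank k (Coh.HH X ((SheafHomX.hom F).obj (Coh.structureModule X)) (2 - p)) =
      Module.finrank k (Coh.HH X F p) := fun p hp => by
    obtain ⟨e⟩ := ExtShX.SmoothDual.nonempty_dual_HH (n := 2) (ι : X ⟶ PnVan.P k N) hι hK hF p hp
    haveI := CurveCohLib.finite_HH (k := k) hFc p
    rw [← e.finrank_eq, Subspace.dual_finrank_eq]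
  rw [euler_eq_three hdim, euler_eq_three hdim, ← h 0 (Nat.zero_le _), ← h 1 (by norm_num), ← h 2 le_rfl]
  norm_num
  ring

variable {C : Scheme.{u}} [C.Over (Spec (CommRingCat.of k))] [IsIntegral C]
  [Smooth (C ↘ Spec (CommRingCat.of k))] (hC : topologicalKrullDim C = 1)
  (i : C ⟶ X) [IsClosedImmersion i]
  (hi : i ≫ (X ↘ Spec (CommRingCat.of k)) = C ↘ Spec (CommRingCat.of k))
  (hq : Module.finrank k (Coh.HH X (Coh.structureModule X) 1) = 0)

omit [IsIntegral X] [Smooth (X ↘ Spec (CommRingCat.of k))]
  [Smooth (C ↘ Spec (CommRingCat.of k))] in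
include hC hi in
/-- Twisting a direct image from the curve. -/
theorem euler_push_twist [IsProper (C ↘ Spec (CommRingCat.of k))] {M : X.Modules} (hM : PicF.IsInvertible M)
    {G : C.Modules} (hG : Coh.IsCoh G) :
    Curv2.euler k X ((DCoh.tensorBi.obj M).obj ((Coh.push i).obj G)) =
      (CurveBundle.rk G : ℤ) * Curv2.deg k C ((Scheme.Modules.pullback i).obj M) 1 + Curv2.euler k C G := by
  let MC : C.Modules := (Scheme.Modules.pullback i).obj M
  have hMC : PicF.IsInvertible MC := PicClLib.isInvertible_pullback i hM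
  obtain ⟨p⟩ := AmpleDev.push_tensor_iso i hM G
  have h1 : Curv2.euler k X ((DCoh.tensorBi.obj M).obj ((Coh.push i).obj G)) =
      Curv2.euler k X (CohB1.tensorMod ((Coh.push i).obj G) M) :=
    Euler.euler_congr k (CurveTensor.commIso M ((Coh.push i).obj G))
  have h2 : Curv2.euler k X (CohB1.tensorMod ((Coh.push i).obj G) M) =
      Curv2.euler k X ((Coh.push i).obj ((DCoh.tensorBi.obj MC).obj G)) :=
    Euler.euler_congr k (p ≪≫ (Coh.push i).mapIso (CurveTensor.commIso G MC))
  have hc := CurveTensor.isCoh_tensor (H23.PullPush.isFinLocFree_of_isInvertible hMC) hG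
  rw [h1, h2, AmpleDev.euler_push k i hi hc.1,
    CurveTensor.euler_tensor k hC (InvEnd.isFinLocFreeOfRank_one hMC) hG, Nat.cast_one, one_mul]

set_option maxHeartbeats 4000000 in
include hdim hι hK hC hi hq in
/-- `χ(Hom(F, F)) = 2 h¹(A) e - 2 g + 2` written with Euler characteristics. -/
theorem euler_hom_lm [IsAlgClosed k] {A : C.Modules} (hA : PicF.IsInvertible A) (e : ℕ)
    (lam : FlatMod.freeMod X e ⟶ (Coh.push i).obj A) [Epi lam] :
    FlatMod.IsFinLocFree (kernel lam) ∧
    Curv2.euler k X ((SheafHomX.hom (kernel lam)).obj (kernel lam)) =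
      2 * (e : ℤ) * e - 2 * e * Curv2.euler k C A - 2 * (Curv2.genus k C : ℤ) + 2 := by
  haveI : IsNoetherian X := CurveCohLib.isNoetherian_of_proper (k := k)
  haveI : IsProper (C ↘ Spec (CommRingCat.of k)) := hi ▸ inferInstance
  haveI : IsNoetherian C := CurveCohLib.isNoetherian_of_proper (k := k)
  let F := kernel lam
  let O := Coh.structureModule X
  let OC := Coh.structureModule C
  let I := ClSub.idealMod i.ker
  let P := (Coh.push i).obj A
  have hAc := AmpleVan.isCoh_invertible hA
  have hPc : Coh.IsCoh P := QCoh.isCoh_pushforward_finite i hAc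
  have hfree : FlatMod.IsFinLocFree (FlatMod.freeMod X e) := KFlatLib.isFinLocFree_freeMod e
  have hFl : FlatMod.IsFinLocFree F := isFinLocFree_kernel_of_socle
    (fun x => GrpSchLib.isRegularLocalRing_stalk_of_smooth (X ↘ Spec (CommRingCat.of k)) x)
    (fun x => (SchTop.ringKrullDim_stalk_le x).trans hdim.le) hfree hPc lam
    fun x hx z hz => push_socle hdim hC i hAc.1 (fun c => by
      haveI := QCoh.free_stalk_of_isFinLocFree (H23.PullPush.isFinLocFree_of_isInvertible hA) c
      infer_instance) x hx z hz
  refine ⟨hFl, ?_⟩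
  have hFc : Coh.IsCoh F := CurveDeg.isCoh_of_isFinLocFree hFl
  let S : ShortComplex X.Modules := ShortComplex.mk (kernel.ι lam) lam (kernel.condition lam)
  have hS : S.ShortExact :=
    { exact := ShortComplex.exact_kernel lam, mono_f := inferInstance, epi_g := ‹Epi lam› }
  -- ranks
  have hη : (genericPoint X) ∉ Set.range i := fun hmem => by
    have h1 := (i.isClosedEmbedding.isClosed_range.closure_subset_iff.2 (Set.singleton_subset_iff.2 hmem))
    rw [genericPoint_closure, Set.univ_subset_iff] at h1
    have h2 := dim_range hC i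
    rw [h1] at h2
    have h3 : topologicalKrullDim ↥(Set.univ : Set X) = topologicalKrullDim X :=
      (Homeomorph.Set.univ X).isHomeomorph.topologicalKrullDim_eq
    rw [h3, hdim] at h2
    exact absurd h2 (by decide)
  have hrP : CurveBundle.rk P = 0 := by
    haveI : Subsingleton (P.presheaf.stalk (genericPoint X)) :=
      not_not.1 fun h => hη (QCoh.support_push_subset i hAc.1 h)
    letI := (CurveBundle.isField_stalk_generic (X := X)).toField
    exact Module.finrank_zero_of_subsingleton
  have hrF : CurveBundle.rk F = e := by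
    have h := CurveSlope.rk_add_coh k (kernel.ι lam) lam _ hS (CurveDeg.isCoh_of_isFinLocFree hfree)
    rw [rk_free (k := k), hrP, add_zero] at h
    exact h.symm
  -- the dual
  let D := (SheafHomX.hom F).obj O
  obtain ⟨dO⟩ := ExtShX.nonempty_hom_iso_homSh_of_locFree hFl O
  have hOl : FlatMod.IsFinLocFree O := H23.PullPush.isFinLocFree_of_isInvertible InvX.isInvertible_structureModule
  have hDl : FlatMod.IsFinLocFree D := H23.PullPush.isFinLocFree_of_iso dO.symm (CurveHom.isFinLocFree_homSh hFl hOl)
  have hDe : FlatMod.IsFinLocFreeOfRank e D := by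
    have h := CurveBundle.isFinLocFreeOfRank_rk hDl
    rw [CurveSlope.rk_congr dO, P1Bundle.rk_homSh hFl hOl, hrF,
      CurveBundle.rk_eq (InvEnd.isFinLocFreeOfRank_one InvX.isInvertible_structureModule), mul_one] at h
    exact h
  let T := (DCoh.tensorBi (X := X)).obj D
  haveI : T.Additive := Functor.additive_of_preserves_binary_products _
  have hT : ∀ G : X.Modules, Curv2.euler k X ((SheafHomX.hom F).obj G) = Curv2.euler k X (T.obj G) := fun G =>
    Euler.euler_congr k ((ExtShX.dualTensorIso hFl G).symm ≪≫ CurveTensor.commIso _ _)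
  have hTc : ∀ {G : X.Modules}, Coh.IsCoh G → Coh.IsCoh (T.obj G) := fun hG => CurveTensor.isCoh_tensor hDl hG
  have hTe : ∀ {S : ShortComplex X.Modules}, S.ShortExact → (S.map T).ShortExact := fun {S} hS =>
    CurveTensor.shortExact_tensor hDl S.f S.g S.zero hS
  -- Euler characteristic of `F`
  have hO : Curv2.euler k X O = 2 := euler_unit (k := k) hdim ι hι hK hq
  have hpush : ∀ {M : C.Modules}, Coh.IsCoh M →
      Curv2.euler k X ((Coh.push i).obj M) = Curv2.euler k C M := fun hM => AmpleDev.euler_push k i hi hM.1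
  have hF1 : Curv2.euler k X F = 2 * e - Curv2.euler k C A := by
    obtain ⟨hc, h⟩ := euler_map_free (k := k) (𝟭 X.Modules) (fun h => h) (fun h => h) e
    have h' := Euler.euler_add k hS hFc hc hPc
    simp only [Functor.id_obj] at h
    change Curv2.euler k X (FlatMod.freeMod X e) = Curv2.euler k X F + Curv2.euler k X P at h'
    rw [h, hpush hAc, hO] at h'
    linarith
  -- the curve
  have hI : PicF.IsInvertible I := isInvertible_ideal (k := k) hdim hC i
  have hIc := AmpleVan.isCoh_invertible hI
  have hOC : Curv2.euler k C OC = 1 - Curv2.genus k C := CurveRR.euler_structureModule k hC.le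
  have hPO : Coh.IsCoh ((Coh.push i).obj OC) := QCoh.isCoh_pushforward_finite i QCoh.isCoh_structureModule'
  obtain ⟨q⟩ := ExtShX.nonempty_push_iso_quotMod i
  haveI : IsLocallyNoetherian i.ker.subscheme := LocallyOfFiniteType.isLocallyNoetherian i.ker.subschemeι
  have hqc : Coh.IsCoh (ClSub.quotMod i.ker) := QCoh.isCoh_pushforward_finite _ QCoh.isCoh_structureModule'
  have hqe : Curv2.euler k X (ClSub.quotMod i.ker) = 1 - Curv2.genus k C := by
    rw [← Euler.euler_congr k q, hpush QCoh.isCoh_structureModule', hOC]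
  have hSI := ExtShX.shortExact_toSubscheme i.ker
  have hIe : Curv2.euler k X I = 1 + Curv2.genus k C := by
    have h := Euler.euler_add k hSI hIc (RefX.isCoh_unit (X := X)) hqc
    change Curv2.euler k X O = Curv2.euler k X I + Curv2.euler k X (ClSub.quotMod i.ker) at h
    rw [hO, hqe] at h
    linarith
  obtain ⟨M, hM, ⟨eM⟩⟩ := H23.PicInv.exists_inverse hI
  have eIM : CohB1.tensorMod I M ≅ O := eM
  have eMI : (DCoh.tensorBi.obj M).obj I ≅ O := CurveTensor.commIso M I ≪≫ eM
  have hMe : Curv2.euler k X M = 1 + Curv2.genus k C := by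
    rw [euler_inverse hdim ι hι hK hM eIM, hIe]
  -- tensoring with `M`
  let TM := (DCoh.tensorBi (X := X)).obj M
  haveI : TM.Additive := Functor.additive_of_preserves_binary_products _
  have hMl := H23.PullPush.isFinLocFree_of_isInvertible hM
  have hTMc : ∀ {G : X.Modules}, Coh.IsCoh G → Coh.IsCoh (TM.obj G) := fun hG => CurveTensor.isCoh_tensor hMl hG
  have hTMe : ∀ {S : ShortComplex X.Modules}, S.ShortExact → (S.map TM).ShortExact := fun {S} hS =>
    CurveTensor.shortExact_tensor hMl S.f S.g S.zero hS
  let MC := (Scheme.Modules.pullback i).obj M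
  have hMC : PicF.IsInvertible MC := PicClLib.isInvertible_pullback i hM
  have hMpush : ∀ {G : C.Modules}, Coh.IsCoh G → Curv2.euler k X (TM.obj ((Coh.push i).obj G)) =
      (CurveBundle.rk G : ℤ) * Curv2.deg k C MC 1 + Curv2.euler k C G :=
    fun {G} hG => euler_push_twist hC i hi hM hG
  have hTMO : Curv2.euler k X (TM.obj O) = 1 + Curv2.genus k C := by
    rw [Euler.euler_congr k (KFlatLib.tensorUnitIso M), hMe]
  have hrO : CurveBundle.rk OC = 1 :=
    CurveBundle.rk_eq (InvEnd.isFinLocFreeOfRank_one InvX.isInvertible_structureModule)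
  have hdeg : Curv2.deg k C MC 1 = 2 * (Curv2.genus k C : ℤ) - 2 := by
    have h := Euler.euler_add k (hTMe hSI) (hTMc hIc) (hTMc (RefX.isCoh_unit (X := X))) (hTMc hqc)
    change Curv2.euler k X (TM.obj O) = Curv2.euler k X (TM.obj I) + Curv2.euler k X (TM.obj (ClSub.quotMod i.ker)) at h
    rw [hTMO, Euler.euler_congr k eMI, hO, ← Euler.euler_congr k (TM.mapIso q),
      hMpush QCoh.isCoh_structureModule', hrO, hOC] at h
    push_cast at h
    linarith
  have hFM : Curv2.euler k X (TM.obj F) =
      (e : ℤ) * (1 + Curv2.genus k C) - Curv2.euler k C A - 2 * Curv2.genus k C + 2 := by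
    obtain ⟨hc, h⟩ := euler_map_free (k := k) TM hTMe hTMc e
    have h' := Euler.euler_add k (hTMe hS) (hTMc hFc) (hTMc hc) (hTMc hPc)
    change Curv2.euler k X (TM.obj (FlatMod.freeMod X e)) = Curv2.euler k X (TM.obj F) + Curv2.euler k X (TM.obj P) at h'
    rw [h, hTMO, hMpush hAc, CurveBundle.rk_eq (InvEnd.isFinLocFreeOfRank_one hA), hdeg] at h'
    push_cast at h'
    linarith
  -- `Hom(F, I) = Hom(F ⊗ M, O)`
  have hTI : Curv2.euler k X (T.obj I) = Curv2.euler k X (TM.obj F) := by
    let G := (AmpleVan.tw M).obj F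
    have hG : FlatMod.IsFinLocFree G := H23.PullPush.isFinLocFree_of_iso (CurveTensor.commIso M F)
      (KFlatLib.isFinLocFree_tensor hMl hFl)
    let ρ : SheafHomX.hom M ⋙ SheafHomX.hom F ≅ SheafHomX.hom G :=
      Adjunction.rightAdjointUniq (((SheafHomX.adj F).comp (SheafHomX.adj M)).ofNatIsoLeft
        (AmpleVan.twComp F M)) (SheafHomX.adj G)
    obtain ⟨a⟩ := ExtShX.nonempty_hom_iso_homSh hM O
    obtain ⟨b⟩ := ExtShX.nonempty_homSh_cancel hM eIM.symm
    rw [← hT, ← Euler.euler_congr k ((SheafHomX.hom F).mapIso (a ≪≫ b)),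
      show (SheafHomX.hom F).obj ((SheafHomX.hom M).obj O) = (SheafHomX.hom M ⋙ SheafHomX.hom F).obj O from rfl,
      Euler.euler_congr k (ρ.app O), euler_hom_structure hdim ι hι hK hG]
    exact Euler.euler_congr k (CurveTensor.commIso F M)
  -- the function on the curve
  have hTO : Curv2.euler k X (T.obj O) = 2 * e - Curv2.euler k C A := by
    rw [← hT, euler_hom_structure hdim ι hι hK hFl, hF1]
  have hTq : Curv2.euler k X (T.obj ((Coh.push i).obj OC)) =
      2 * e - Curv2.euler k C A - ((e : ℤ) * (1 + Curv2.genus k C) - Curv2.euler k C A - 2 * Curv2.genus k C + 2) := by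
    have h := Euler.euler_add k (hTe hSI) (hTc hIc) (hTc (RefX.isCoh_unit (X := X))) (hTc hqc)
    change Curv2.euler k X (T.obj O) = Curv2.euler k X (T.obj I) + Curv2.euler k X (T.obj (ClSub.quotMod i.ker)) at h
    rw [hTO, hTI, hFM, ← Euler.euler_congr k (T.mapIso q)] at h
    linarith
  let ψ : CurvePsi.Psi C :=
    { toFun := fun G => Curv2.euler k X (T.obj ((Coh.push i).obj G)) - e * Curv2.euler k C G
      congr := fun φ => by
        rw [Euler.euler_congr k (T.mapIso ((Coh.push i).mapIso φ)), Euler.euler_congr k φ]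
      add := fun f g w hS hA hB hC => by
        haveI := QCoh.preservesFiniteLimits_push i
        haveI : PreservesFiniteColimits (Coh.push i) := PushAmp.preservesFiniteColimits_push_closed i
        haveI : (Coh.push i).Additive := Functor.additive_of_preserves_binary_products _
        have h1 := hS.map_of_exact (Coh.push i)
        have h2 := Euler.euler_add k (hTe h1) (hTc (QCoh.isCoh_pushforward_finite i hA))
          (hTc (QCoh.isCoh_pushforward_finite i hB)) (hTc (QCoh.isCoh_pushforward_finite i hC))
        have h3 := Euler.euler_add k hS hA hB hC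
        simp only [ShortComplex.map_X₁, ShortComplex.map_X₂, ShortComplex.map_X₃] at h2 h3
        rw [h2, h3]
        ring
      zero := fun {G} hG h0 => by
        have hsupp : ∀ x ∈ CohB1.support ((Coh.push i).obj G), IsClosed ({x} : Set X) := fun x hx => by
          obtain ⟨c, rfl⟩ := QCoh.support_push_subset i hG.1 hx
          have hc : c ∈ CohB1.support G := fun hs => hx
            ((PushAmp.pushStalkEquiv i G c).toEquiv.subsingleton_congr.2 hs)
          simpa using i.isClosedEmbedding.isClosedMap _ (h0 c hc)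
        have h := CurveTensor.euler_tensor_torsion k hDe (QCoh.isCoh_pushforward_finite i hG) hsupp
        show Curv2.euler k X (T.obj ((Coh.push i).obj G)) - _ = 0
        rw [h, hpush hG, sub_self] }
  have hψ := CurvePsi.Psi.tensor_eq ψ hC.le (InvEnd.isFinLocFreeOfRank_one hA) (QCoh.isCoh_structureModule' (X := C))
  rw [ψ.congr (KFlatLib.tensorUnitIso A), Nat.cast_one, one_mul] at hψ
  simp only [ψ] at hψ
  rw [hTq, hOC] at hψ
  obtain ⟨hc, h⟩ := euler_map_free (k := k) T hTe hTc e
  have h' := Euler.euler_add k (hTe hS) (hTc hFc) (hTc hc) (hTc hPc)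
  change Curv2.euler k X (T.obj (FlatMod.freeMod X e)) = Curv2.euler k X (T.obj F) + Curv2.euler k X (T.obj P) at h'
  rw [h, hTO] at h'
  show Curv2.euler k X ((SheafHomX.hom F).obj F) = _
  rw [hT]
  linear_combination (-1 : ℤ) * h' - hψ

end Groth.Agent.SurfStab

namespace Groth.Agent.SurfStab

open Groth.Agent PnCoh.Finite

/-- Global sections along a split sequence. -/
theorem finrank_h0_split {k : Type u} [Field k] {X : Scheme.{u}} [X.Over (Spec (CommRingCat.of k))]
    (S : ShortComplex X.Modules) (σ : S.Splitting) [Module.Finite k (Coh.HH X S.X₂ 0)] :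
    Module.finrank k (Coh.HH X S.X₂ 0) =
      Module.finrank k (Coh.HH X S.X₁ 0) + Module.finrank k (Coh.HH X S.X₃ 0) := by
  let f := mapLin k S.f 0
  let g := mapLin k S.g 0
  have hinj : Function.Injective f := LinearMap.ker_eq_bot.1 (Euler.ker_mapLin_f_zero k σ.shortExact)
  have hex : LinearMap.range f = LinearMap.ker g := Euler.range_mapLin_f k σ.shortExact 0
  have hsurj : Function.Surjective g := fun y => ⟨mapLin k σ.s 0 y,
    (Groth.Agent.PnCoh.Finite.map_map (Y := X.toPresheafedSpace.carrier)
      (((QCoh.toAbFunctor X).map_comp σ.s S.g).symm.trans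
        (by rw [σ.s_g, CategoryTheory.Functor.map_id]; rfl)) 0 y).trans (Sheaf.H.map_id_apply y)⟩
  have h := g.finrank_range_add_finrank_ker
  rw [LinearMap.range_eq_top.2 hsurj, finrank_top, ← hex, LinearMap.finrank_range_of_inj hinj] at h
  rw [← h, add_comm]

/-- Global sections of a free module. -/
theorem finrank_h0_free {k : Type u} [Field k] {X : Scheme.{u}} [X.Over (Spec (CommRingCat.of k))]
    [IsProper (X ↘ Spec (CommRingCat.of k))] [IsNoetherian X] : ∀ n : ℕ,
    Module.finrank k (Coh.HH X (FlatMod.freeMod X n) 0) = n * Module.finrank k (Coh.HH X (Coh.structureModule X) 0)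
  | 0 => by
    haveI := Euler.subsingleton_HH_of_isZero (freeMod_zero_isZero X) 0
    rw [Module.finrank_zero_of_subsingleton, zero_mul]
  | n + 1 => by
    haveI hfin : Module.Finite k (Coh.HH X (FlatMod.freeMod X (n + 1)) 0) :=
      CurveCohLib.finite_HH (k := k) (KZ.RankNilp.sigma_const (RefX.isCoh_unit (X := X)) (n + 1)).1 0
    have h := @finrank_h0_split k _ X _
      (ShortComplex.mk (firstIn X n) (restOut X n) (firstIn_restOut X n)) (splitting X n) hfin
    dsimp only at h
    rw [h, finrank_h0_free n, add_mul, one_mul, add_comm]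

end Groth.Agent.SurfStab
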