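import Groth.Agent.SurfStab.Criterion
import Groth.Agent.KZ.RankNilp

/-!
# Subsheaves of free sheaves on a surface of Picard number one
-/

set_option linter.style.haveILetI false
set_option linter.unusedSectionVars false
set_option backward.isDefEq.respectTransparency false
set_option backward.isDefEq.respectTransparency.types false

universe u

open CategoryTheory CategoryTheory.Limits AlgebraicGeometry Polynomial StabCat TopologicalSpace

noncomputable section

namespace Groth.Agent.SurfStab

open Groth.Agent Groth.Agent.ShStabLib Groth.Agent.HilbPoly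

variable {X : Scheme.{u}}

/-- The first coordinate line of a free module. -/
def firstIn (X : Scheme.{u}) (n : ℕ) : Coh.structureModule X ⟶ FlatMod.freeMod X (n + 1) :=
  Sigma.ι (fun _ : Fin (n + 1) => Coh.structureModule X) 0

/-- Forgetting the first coordinate. -/
def restOut (X : Scheme.{u}) (n : ℕ) : FlatMod.freeMod X (n + 1) ⟶ FlatMod.freeMod X n :=
  Sigma.desc fun j => Fin.cases (motive := fun _ => Coh.structureModule X ⟶ FlatMod.freeMod X n) 0
    (fun i => Sigma.ι (fun _ : Fin n => Coh.structureModule X) i) j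

/-- The first coordinate. -/
def firstOut (X : Scheme.{u}) (n : ℕ) : FlatMod.freeMod X (n + 1) ⟶ Coh.structureModule X :=
  Sigma.desc fun j => Fin.cases (motive := fun _ => Coh.structureModule X ⟶ Coh.structureModule X) (𝟙 _)
    (fun _ => 0) j

/-- The remaining coordinates. -/
def restIn (X : Scheme.{u}) (n : ℕ) : FlatMod.freeMod X n ⟶ FlatMod.freeMod X (n + 1) :=
  Sigma.desc fun i => Sigma.ι (fun _ : Fin (n + 1) => Coh.structureModule X) i.succ

theorem firstIn_restOut (X : Scheme.{u}) (n : ℕ) : firstIn X n ≫ restOut X n = 0 := by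
  simp [firstIn, restOut]

/-- The coordinate splitting. -/
def splitting (X : Scheme.{u}) (n : ℕ) :
    (ShortComplex.mk (firstIn X n) (restOut X n) (firstIn_restOut X n)).Splitting where
  r := firstOut X n
  s := restIn X n
  f_r := by simp [firstIn, firstOut]
  s_g := Sigma.hom_ext _ _ fun i => by simp [restIn, restOut]
  id := Sigma.hom_ext _ _ fun j => by
    induction j using Fin.cases with
    | zero => simp [firstIn, firstOut, restOut]
    | succ i => simp [firstOut, restOut, restIn]

theorem freeMod_zero_isZero (X : Scheme.{u}) : IsZero (FlatMod.freeMod X 0) :=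
  (IsZero.iff_id_eq_zero _).2 (Sigma.hom_ext _ _ fun i => i.elim0)

theorem stalkMapₗ_add {F G : X.Modules} (φ ψ : F ⟶ G) (y : X) (v : F.presheaf.stalk y) :
    RefHull.stalkMapₗ (φ + ψ) y v = RefHull.stalkMapₗ φ y v + RefHull.stalkMapₗ ψ y v :=
  ConcreteCategory.congr_hom ((DerSch.stalkFunctor X y).map_add (f := φ) (g := ψ)) v

theorem stalk_split (n : ℕ) (y : X) (v : (FlatMod.freeMod X (n + 1)).presheaf.stalk y) :
    RefHull.stalkMapₗ (firstIn X n) y (RefHull.stalkMapₗ (firstOut X n) y v) +
      RefHull.stalkMapₗ (restIn X n) y (RefHull.stalkMapₗ (restOut X n) y v) = v := by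
  have h := (splitting X n).id
  have h2 : RefHull.stalkMapₗ (firstOut X n ≫ firstIn X n + restOut X n ≫ restIn X n) y v =
      RefHull.stalkMapₗ (𝟙 (FlatMod.freeMod X (n + 1))) y v := by
    rw [show firstOut X n ≫ firstIn X n + restOut X n ≫ restIn X n = 𝟙 _ from h]
  rw [stalkMapₗ_add, RefFun.stalkMapₗ_comp, RefFun.stalkMapₗ_comp] at h2
  exact h2.trans (ConcreteCategory.congr_hom ((DerSch.stalkFunctor X y).map_id _) v)

theorem free_gsp_injective [IsIntegral X] [IsLocallyNoetherian X] : ∀ (n : ℕ) (x : X),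
    Function.Injective (Ref1X.gsp (FlatMod.freeMod X n) x)
  | 0, x => by
    haveI := ModuleCat.subsingleton_of_isZero (Functor.map_isZero (DerSch.stalkFunctor X x) (freeMod_zero_isZero X))
    exact fun a b _ => Subsingleton.elim (α := (DerSch.stalkFunctor X x).obj _) a b
  | n + 1, x => fun a b e => by
    rw [← stalk_split n x a, ← stalk_split n x b]
    congr 2
    · apply Ref1X.unit_gsp_injective (X := X) x
      rw [Ref1X.sp_stalkMap, Ref1X.sp_stalkMap, e]
    · apply free_gsp_injective n x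
      rw [Ref1X.sp_stalkMap, Ref1X.sp_stalkMap, e]

variable [IsIntegral X]

/-- The subsheaf contains the line of `u` at the generic point and in codimension one. -/
def Sat {F G : X.Modules} (ι : G ⟶ F) (u : Coh.structureModule X ⟶ F) : Prop :=
  ∀ y : X, (y = genericPoint X ∨ Order.coheight y = 1) →
    ∃ g, RefHull.stalkMapₗ ι y g = RefHull.stalkMapₗ u y (RefX.unitStalk y 1)

/-- A line of the quotient of a subsheaf meeting the coordinate line trivially lifts. -/
theorem exists_lift_line [IsLocallyNoetherian X] (hX : Pi1.IsNormalScheme X) {n : ℕ} {G I : X.Modules}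
    (ι : G ⟶ FlatMod.freeMod X (n + 1)) (p : G ⟶ I) (β : I ⟶ FlatMod.freeMod X n) [Mono p] [Mono β] [Epi p]
    (hfac : p ≫ β = ι ≫ restOut X n) {u' : Coh.structureModule X ⟶ FlatMod.freeMod X n} (hu : u' ≠ 0)
    (hs : Sat β u') : ∃ u, u ≠ 0 ∧ Sat ι u := by
  have hlift : ∀ y : X, (y = genericPoint X ∨ Order.coheight y = 1) → ∃ g,
      RefHull.stalkMapₗ (restOut X n) y (RefHull.stalkMapₗ ι y g) =
        RefHull.stalkMapₗ u' y (RefX.unitStalk y 1) := fun y hy => by
    obtain ⟨i, hi⟩ := hs y hy
    haveI := (DerSch.stalkFunctor X y).map_epi p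
    obtain ⟨g, hg⟩ := (ModuleCat.epi_iff_surjective ((DerSch.stalkFunctor X y).map p)).1 inferInstance i
    refine ⟨g, ?_⟩
    have h1 := LinearMap.congr_fun (congrArg (fun φ => RefHull.stalkMapₗ φ y) hfac) g
    rw [RefFun.stalkMapₗ_comp, RefFun.stalkMapₗ_comp, LinearMap.comp_apply, LinearMap.comp_apply] at h1
    rw [← h1, ← hi]
    exact congrArg _ hg
  obtain ⟨g₀, hg₀⟩ := hlift _ (Or.inl rfl)
  obtain ⟨c, hc⟩ := (RefX.unitStalk (genericPoint X)).surjective
    (RefHull.stalkMapₗ (firstOut X n) (genericPoint X) (RefHull.stalkMapₗ ι (genericPoint X) g₀))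
  have hyv : ∀ (y : X) g, RefHull.stalkMapₗ (restOut X n) y (RefHull.stalkMapₗ ι y g) =
      RefHull.stalkMapₗ u' y (RefX.unitStalk y 1) → Ref1X.gsp G y g = g₀ := fun y g hg => by
    haveI : Mono (ι ≫ restOut X n) := by rw [← hfac]; infer_instance
    refine CurveBundle.stalkMap_injective (ι ≫ restOut X n) _ ?_
    show RefHull.stalkMapₗ (ι ≫ restOut X n) _ _ = RefHull.stalkMapₗ (ι ≫ restOut X n) _ _
    rw [RefFun.stalkMapₗ_comp, LinearMap.comp_apply, LinearMap.comp_apply, ← Ref1X.sp_stalkMap ι (Ref1X.eta_le y),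
      ← Ref1X.sp_stalkMap (restOut X n) (Ref1X.eta_le y), hg, hg₀, Ref1X.sp_stalkMap u' (Ref1X.eta_le y),
      Ref1X.gsp_unit_one]
  obtain ⟨u₀, hu₀⟩ := Ref1X.exists_hom hX RefX.isCoh_unit Ref1X.isReflexive_unit
    (c • LinearMap.id (R := X.presheaf.stalk (genericPoint X))
      (M := (Coh.structureModule X).presheaf.stalk (genericPoint X))) fun y hy m => by
      obtain ⟨g, hg⟩ := hlift y (Or.inr hy)
      obtain ⟨a, rfl⟩ := (RefX.unitStalk y).surjective m
      refine ⟨a • RefHull.stalkMapₗ (firstOut X n) y (RefHull.stalkMapₗ ι y g), ?_⟩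
      rw [Ref1X.sp_smul, Ref1X.sp_stalkMap, Ref1X.sp_stalkMap, hyv y g hg, ← hc, LinearMap.smul_apply,
        LinearMap.id_apply, Ref1X.sp_unitStalk, ← map_smul, ← map_smul, smul_eq_mul, smul_eq_mul, mul_comm]
  refine ⟨u' ≫ restIn X n + u₀ ≫ firstIn X n, fun h0 => hu ?_, fun y hy => ?_⟩
  · have h1 := congrArg (fun φ => φ ≫ restOut X n) h0
    simpa [Preadditive.add_comp, firstIn_restOut, show restIn X n ≫ restOut X n = 𝟙 _ from (splitting X n).s_g]
      using h1
  · obtain ⟨g, hg⟩ := hlift y hy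
    refine ⟨g, ?_⟩
    rw [stalkMapₗ_add, RefFun.stalkMapₗ_comp, RefFun.stalkMapₗ_comp, LinearMap.comp_apply, LinearMap.comp_apply,
      ← hg, show RefHull.stalkMapₗ u₀ y (RefX.unitStalk y 1) =
        RefHull.stalkMapₗ (firstOut X n) y (RefHull.stalkMapₗ ι y g) from ?_]
    · exact (stalk_split n y _).symm.trans (add_comm _ _)
    apply Ref1X.unit_gsp_injective (X := X) y
    rw [Ref1X.sp_stalkMap, Ref1X.sp_stalkMap, Ref1X.sp_stalkMap, hu₀, Ref1X.gsp_unit_one, hyv y g hg, ← hc,
      LinearMap.smul_apply, LinearMap.id_apply, ← map_smul, smul_eq_mul, mul_one]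

variable {k : Type u} [Field k] [X.Over (Spec (CommRingCat.of k))]
  [IsProper (X ↘ Spec (CommRingCat.of k))] {L : X.Modules} (hdim : topologicalKrullDim X = 2)

include hdim in
/-- Invariants of subsheaves of free modules. -/
theorem sub_free [Smooth (X ↘ Spec (CommRingCat.of k))] [PicGrp.Law X] (hL : CohB1.IsAmple L)
    (hgen : ∀ c : PicLoc.PicSet X, ∃ n : ℤ, c = PicGrp.cls L hL.1 ^ n) :
    ∀ (n : ℕ) (G : X.Modules) (ι : G ⟶ FlatMod.freeMod X n), Mono ι → Coh.IsCoh G → ¬ IsZero G →
      ∃ s : ℕ, 1 ≤ s ∧ a₂ k L G = s * a₂ k L (Coh.structureModule X) ∧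
        (a₁ k L G + a₂ k L (Coh.structureModule X) ≤ s * a₁ k L (Coh.structureModule X) ∨
          (a₁ k L G ≤ s * a₁ k L (Coh.structureModule X) ∧
            ∃ u : Coh.structureModule X ⟶ FlatMod.freeMod X n, u ≠ 0 ∧ Sat ι u))
  | 0, G, ι, hι, _, h0 => absurd (haveI := hι; IsZero.of_mono ι (freeMod_zero_isZero X)) h0
  | n + 1, G, ι, hι, hG, hG0 => by
    haveI : IsNoetherian X := CurveCohLib.isNoetherian_of_proper (k := k)
    haveI := hι
    have hX := normal_of_smooth (k := k) (X := X)
    have hO := RefX.isCoh_unit (X := X)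
    have hFn : Coh.IsCoh (FlatMod.freeMod X n) := (KZ.RankNilp.sigma_const hO n).1
    have hS := (splitting X n).shortExact
    haveI : Mono (firstIn X n) := hS.mono_f
    obtain ⟨K, I, α, p, β, w', hfac, hα, hβ, hp', hse, hK, hI⟩ :=
      exists_factor (k := k) hG hFn (ι ≫ restOut X n)
    haveI := hα; haveI := hβ; haveI := hp'
    obtain ⟨eG2, eG1⟩ := invariants_add (k := k) hdim hL α p w' hse hK hG hI
    let c : K ⟶ Coh.structureModule X := hS.fIsKernel.lift (KernelFork.ofι (α ≫ ι) (by
      rw [Category.assoc, ← hfac, ← Category.assoc, w', Limits.zero_comp]))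
    have hc : c ≫ firstIn X n = α ≫ ι := hS.fIsKernel.fac _ WalkingParallelPair.zero
    haveI : Mono c := by
      haveI : Mono (c ≫ firstIn X n) := by rw [hc]; infer_instance
      exact mono_of_mono c (firstIn X n)
    have hf0 : firstIn X n ≠ 0 := fun h0 => one_ne_zero (α := Γ(X, ⊤))
      (congrArg InvX.one ((IsZero.of_mono_eq_zero (firstIn X n) h0).eq_of_src (𝟙 (Coh.structureModule X)) 0))
    by_cases hK0 : IsZero K
    · obtain ⟨z2, z1⟩ := invariants_zero (k := k) hdim hL hK hK0
      haveI : Mono p := hse.exact.mono_g (hK0.eq_of_src _ _)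
      have hI0 : ¬ IsZero I := fun hz => hG0 (IsZero.of_mono p hz)
      obtain ⟨s, hs1, hs2, hs⟩ := sub_free hL hgen n I β hβ hI hI0
      refine ⟨s, hs1, by rw [eG2, z2, zero_add, hs2], ?_⟩
      rw [eG1, z1, zero_add]
      refine hs.imp_right fun ⟨h, u', hu', hsat⟩ => ⟨h, exists_lift_line hX ι p β hfac hu' hsat⟩
    · have hηc := surjective_eta_of_mono (k := k) InvX.isInvertible_structureModule c hK0
      obtain ⟨-, k2, k1, k0⟩ := invariants_of_mono hdim (k := k) hL hK hO c hηc
      have hsatK : (∀ y : X, Order.coheight y = 1 → Function.Surjective (RefHull.stalkMapₗ c y)) →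
          Sat ι (firstIn X n) := fun h y hy => by
        obtain ⟨m, hm⟩ : ∃ m, RefHull.stalkMapₗ c y m = RefX.unitStalk y 1 := by
          rcases hy with rfl | hy
          · exact hηc _
          · exact h y hy _
        refine ⟨RefHull.stalkMapₗ α y m, ?_⟩
        have h1 := LinearMap.congr_fun (congrArg (fun φ => RefHull.stalkMapₗ φ y) hc) m
        rw [RefFun.stalkMapₗ_comp, RefFun.stalkMapₗ_comp, LinearMap.comp_apply, LinearMap.comp_apply, hm] at h1
        exact h1.symm
      obtain ⟨t, ht2, ht1⟩ : ∃ t : ℕ, a₂ k L I = t * a₂ k L (Coh.structureModule X) ∧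
          a₁ k L I ≤ t * a₁ k L (Coh.structureModule X) := by
        by_cases hI0 : IsZero I
        · obtain ⟨z2, z1⟩ := invariants_zero (k := k) hdim hL hI hI0
          exact ⟨0, by simp [z2], by simp [z1]⟩
        · obtain ⟨t, -, ht2, ht⟩ := sub_free hL hgen n I β hβ hI hI0
          refine ⟨t, ht2, ?_⟩
          have := (pos_a₂_unit (k := k) hdim hL).le
          rcases ht with h | h
          · linarith
          · exact h.1
      refine ⟨t + 1, Nat.le_add_left 1 t, by rw [eG2, k2, ht2]; push_cast; ring, ?_⟩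
      rcases lt_or_surjective hdim (k := k) hL hgen InvX.isInvertible_structureModule hK c hK0 with h | ⟨h', h⟩
      · refine Or.inl ?_
        rw [eG1]; push_cast; nlinarith
      · refine Or.inr ⟨?_, firstIn X n, hf0, hsatK h⟩
        rw [eG1]; push_cast; nlinarith

end Groth.Agent.SurfStab

end
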