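import Groth.Agent.SurfStab.Dichotomy

/-!
# A criterion for slope stability on a surface
-/

set_option linter.style.haveILetI false
set_option linter.unusedSectionVars false
set_option backward.isDefEq.respectTransparency false
set_option backward.isDefEq.respectTransparency.types false

universe u

open CategoryTheory CategoryTheory.Limits AlgebraicGeometry Polynomial StabCat TopologicalSpace

noncomputable section

namespace Groth.Agent.SurfStab

open Groth.Agent Groth.Agent.ShStabLib Groth.Agent.HilbPoly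

variable {k : Type u} [Field k] {X : Scheme.{u}} [X.Over (Spec (CommRingCat.of k))]
  [IsProper (X ↘ Spec (CommRingCat.of k))] {L : X.Modules} [IsIntegral X] (hdim : topologicalKrullDim X = 2)

theorem dim_support_of_isZero {F : X.Modules} (hF : Coh.IsCoh F) (h : IsZero F) :
    topologicalKrullDim ↥(CohB1.support F) = ⊥ := by
  rw [QCoh.support_eq_empty_of_isZero h hF.1]
  haveI : IsEmpty (IrreducibleCloseds ↥(∅ : Set X)) :=
    ⟨fun s => s.2.1.ne_empty (Set.eq_empty_of_isEmpty s.1)⟩
  rw [topologicalKrullDim, Order.krullDim_eq_bot_iff.2 ‹_›]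

include hdim in
theorem invariants_zero (hL : CohB1.IsAmple L) {F : X.Modules} (hF : Coh.IsCoh F) (h : IsZero F) :
    a₂ k L F = 0 ∧ a₁ k L F = 0 := by
  have hs : ∀ d : ℕ, topologicalKrullDim ↥(CohB1.support F) < (d : WithBot ℕ∞) := fun d => by
    rw [dim_support_of_isZero hF h]
    exact WithBot.bot_lt_coe _
  exact ⟨hp_alpha_eq_zero (d := 2) hL hF (hs 2), hp_alpha_eq_zero (d := 1) hL hF (hs 1)⟩

include hdim in
theorem invariants_add (hL : CohB1.IsAmple L) {A B C : X.Modules} (f : A ⟶ B) (g : B ⟶ C) (w : f ≫ g = 0)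
    (hS : (ShortComplex.mk f g w).ShortExact) (hA : Coh.IsCoh A) (hB : Coh.IsCoh B) (hC : Coh.IsCoh C) :
    a₂ k L B = a₂ k L A + a₂ k L C ∧ a₁ k L B = a₁ k L A + a₁ k L C :=
  StabHom.alpha_sum (d := 2) (StabHom.hp_add' (k := k) hL f g w hS hA (tame_of_coh hdim hB) hC)

include hdim in
theorem invariants_iso (hL : CohB1.IsAmple L) {A B : X.Modules} (hA : Coh.IsCoh A) (e : A ≅ B) :
    a₂ k L B = a₂ k L A ∧ a₁ k L B = a₁ k L A := by
  simp [a₁, a₂, hp_iso (k := k) hL (tame_of_coh hdim hA) e]

include hdim in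
theorem pos_a₂ (hL : CohB1.IsAmple L) {F : X.Modules} (hF : Coh.IsCoh F)
    (hinj : ∀ x, Function.Injective (Ref1X.gsp F x)) (h0 : ¬ IsZero F) : 0 < a₂ k L F :=
  hp_alpha_pos hL hF (isPure_of_injective (k := k) hdim hinj) h0

include hdim in
theorem pos_a₂_unit (hL : CohB1.IsAmple L) : 0 < a₂ k L (Coh.structureModule X) := by
  haveI : IsNoetherian X := CurveCohLib.isNoetherian_of_proper (k := k)
  refine pos_a₂ hdim hL RefX.isCoh_unit (Ref1X.gsp_injective RefX.isCoh_unit Ref1X.isReflexive_unit) fun h => ?_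
  exact one_ne_zero (α := Γ(X, ⊤)) (congrArg InvX.one (h.eq_of_src (𝟙 (Coh.structureModule X)) 0))

include hdim in
/-- Slope stability from the invariants of subsheaves. -/
theorem isMuStable_of (hL : CohB1.IsAmple L) {F : X.Modules} (hF : Coh.IsCoh F)
    (hinj : ∀ x, Function.Injective (Ref1X.gsp F x)) (h0 : ¬ IsZero F)
    (hst : ∀ (G : X.Modules) (ι : G ⟶ F), Mono ι → Coh.IsCoh G → ¬ IsZero G → a₂ k L G < a₂ k L F →
      a₁ k L G * a₂ k L F < a₁ k L F * a₂ k L G) :
    ShStab.IsMuStable k X L F 2 := by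
  have hp := isPure_of_injective (k := k) hdim hinj
  have hT := tame_of_coh (X := X) hdim hF
  refine ⟨hF, h0, dim_of_isPure hp hF h0, fun G ι hι hG => ?_, fun G ι hι hG pF pE hpF hpE hpos hlt => ?_⟩
  · by_cases hG0 : IsZero G
    · intro he
      rw [dim_support_of_isZero hG hG0, WithBot.bot_add] at he
      exact WithBot.bot_ne_coe he
    · rw [hp G ι hι hG hG0]
      decide
  · haveI := hι
    have eF := hp_eq (k := k) hL (tame_of_coh hdim hG) hpF
    have eE := hp_eq (k := k) hL hT hpE
    subst eF eE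
    have hG0 : ¬ IsZero G := fun hz => (ne_of_gt hpos) (invariants_zero hdim hL hG hz).1
    rw [hatSlope, hatSlope, div_lt_div_iff₀ hpos (hp_alpha_pos hL hF hp h0)]
    exact hst G ι hι hG hG0 hlt

end Groth.Agent.SurfStab

end
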