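import Groth.Agent.SurfStab.Criterion
import Groth.Agent.ExtShX.SmoothDual
import Groth.Agent.ExtShX.CanonClosed
import Groth.Agent.HilbCurve.Affine
import Groth.Agent.S0458
import Groth.Agent.H23.PicInv
import Groth.Agent.CurveCohLib.Euler

/-!
# Duality on a surface with trivial canonical sheaf
-/

set_option linter.style.haveILetI false
set_option linter.unusedSectionVars false
set_option backward.isDefEq.respectTransparency false
set_option backward.isDefEq.respectTransparency.types false

universe u

open CategoryTheory CategoryTheory.Limits AlgebraicGeometry Polynomial StabCat TopologicalSpace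

noncomputable section

namespace Groth.Agent.SurfStab

open Groth.Agent Groth.Agent.ShStabLib Groth.Agent.HilbPoly

variable {k : Type u} [Field k] {X : Scheme.{u}} [X.Over (Spec (CommRingCat.of k))] [IsIntegral X]
  (hdim : topologicalKrullDim X = 2)

include hdim in
/-- A smooth surface is smooth of relative dimension two. -/
theorem smoothOfRelativeDimension_two [Smooth (X ↘ Spec (CommRingCat.of k))] :
    SmoothOfRelativeDimension 2 (X ↘ Spec (CommRingCat.of k)) := by
  let f := X ↘ Spec (CommRingCat.of k)
  choose U hU V hV e n hx hstd hsm hfd using fun x : X => Synt29.SmoothDim.exists_chart f x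
  have hdimV : ∀ x, topologicalKrullDim ↥(V x : Set X) = 2 := fun x => by
    refine le_antisymm ((topologicalKrullDim_subspace_le X _).trans hdim.le) ?_
    rw [← hdim, VarDim.topologicalKrullDim_eq_deg_genericPoint f, VarDim.topologicalKrullDim_opens_eq_iSup_deg f (V x)]
    exact le_iSup_of_le ⟨genericPoint X, ((genericPoint_spec X).mem_open_set_iff (V x).2).2
      ⟨x, Set.mem_univ x, hx x⟩⟩ le_rfl
  have hn : ∀ x, n x = 2 := fun x => by
    haveI : Nonempty (V x : Scheme.{u}) := ⟨⟨x, hx x⟩⟩
    have hUtop : U x = ⊤ := by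
      refine Opens.ext (Set.eq_univ_of_forall fun y => ?_)
      have : y = f x := Subsingleton.elim (α := PrimeSpectrum k) _ _
      rw [this]; exact e x (hx x)
    have h := hstd x
    generalize e x = e' at h
    revert e' h
    rw [hUtop]
    intro e' h
    let ε : k ≃+* Γ(Spec (CommRingCat.of k), ⊤) :=
      (Scheme.ΓSpecIso (CommRingCat.of k)).commRingCatIsoToRingEquiv.symm
    have h2 := RingHom.isStandardSmoothOfRelativeDimension_respectsIso.2 _ ε h
    algebraize [(f.appLE ⊤ (V x) e').hom.comp ε.toRingHom]
    haveI : Nontrivial Γ(X, V x) := Scheme.component_nontrivial _ _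
    have h3 := SmoothDim.ringKrullDim_eq k Γ(X, V x) (n x)
    rw [← PrimeSpectrum.topologicalKrullDim_eq_ringKrullDim,
      show topologicalKrullDim (PrimeSpectrum Γ(X, V x)) = topologicalKrullDim (V x) from
        (IsHomeomorph.topologicalKrullDim_eq _ (hV x).isoSpec.schemeIsoToHomeo.isHomeomorph).symm] at h3
    have h4 : ((n x : ℕ) : WithBot ℕ∞) = ((2 : ℕ) : WithBot ℕ∞) := (h3.symm.trans (hdimV x))
    exact_mod_cast h4
  rw [IsZariskiLocalAtSource.iff_of_iSup_eq_top (P := @SmoothOfRelativeDimension 2) (U := V)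
    (eq_top_iff.2 fun x _ => Opens.mem_iSup.2 ⟨x, hx x⟩)]
  intro x
  exact hn x ▸ hsm x

variable [IsProper (X ↘ Spec (CommRingCat.of k))]

include hdim in
theorem euler_eq_three (M : X.Modules) :
    Curv2.euler k X M = (Module.finrank k (Coh.HH X M 0) : ℤ) - Module.finrank k (Coh.HH X M 1) +
      Module.finrank k (Coh.HH X M 2) := by
  haveI : IsNoetherian X := CurveCohLib.isNoetherian_of_proper (k := k)
  rw [CurveCohLib.euler_eq_sum (N := 3) fun i hi => S0458.result (X := TopCat.of X) 2 (le_of_eq hdim) _ i hi]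
  simp [Finset.sum_range_succ]
  ring

variable [Smooth (X ↘ Spec (CommRingCat.of k))] {N : ℕ} (ι : X ⟶ CohB1.ProjSpace N k) [IsClosedImmersion ι]
  (hι : ι ≫ CohB1.ProjSpace.toSpec N k = X ↘ Spec (CommRingCat.of k))
  (hK : Canon.IsTopDiff (X ↘ Spec (CommRingCat.of k)) 2 (Coh.structureModule X))

include hdim hι hK in
/-- The top cohomology is dual to the maps to the structure sheaf. -/
theorem h2_eq_zero {F : X.Modules} (hF : Coh.IsCoh F) (h : ∀ φ : F ⟶ Coh.structureModule X, φ = 0) :
    Module.finrank k (Coh.HH X F 2) = 0 := by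
  haveI : EnoughInjectives X.Modules := inferInstanceAs (EnoughInjectives (SheafOfModules _))
  haveI : HasExt.{u} X.Modules := inferInstance
  haveI := smoothOfRelativeDimension_two (k := k) hdim
  obtain ⟨e⟩ := ExtShX.SmoothDual.nonempty_ext_dual (n := 2) (ι : X ⟶ PnVan.P k N) hι hK hF 0 (Nat.zero_le _)
  haveI : Subsingleton (F ⟶ Coh.structureModule X) := ⟨fun a b => (h a).trans (h b).symm⟩
  haveI : Subsingleton (Abelian.Ext.{u} F (Coh.structureModule X) 0) :=
    (Abelian.Ext.addEquiv₀ (X := F) (Y := Coh.structureModule X)).toEquiv.subsingleton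
  haveI : Subsingleton (Module.Dual k (Coh.HH X F 2)) := e.symm.toEquiv.subsingleton
  haveI := CurveCohLib.finite_HH (k := k) hF 2
  rw [← Subspace.dual_finrank_eq, Module.finrank_zero_of_subsingleton]

include hdim hι hK in
/-- Duality between an invertible sheaf and its inverse. -/
theorem finrank_inverse {D L : X.Modules} (hD : PicF.IsInvertible D)
    (eD : CohB1.tensorMod L D ≅ Coh.structureModule X) (i : ℕ) (hi : i ≤ 2) :
    Module.finrank k (Coh.HH X D (2 - i)) = Module.finrank k (Coh.HH X L i) := by
  haveI : EnoughInjectives X.Modules := inferInstanceAs (EnoughInjectives (SheafOfModules _))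
  haveI : HasExt.{u} X.Modules := inferInstance
  haveI := smoothOfRelativeDimension_two (k := k) hdim
  haveI : IsNoetherian X := CurveCohLib.isNoetherian_of_proper (k := k)
  obtain ⟨c⟩ := ExtShX.nonempty_homSh_cancel hD eD.symm
  obtain ⟨c'⟩ := ExtShX.nonempty_hom_iso_homSh hD (Coh.structureModule X)
  have hDc := AmpleVan.isCoh_invertible hD
  obtain ⟨e⟩ := ExtShX.SmoothDual.nonempty_ext_dual (n := 2) (ι : X ⟶ PnVan.P k N) hι hK hDc i hi
  obtain ⟨g⟩ := PnDual.nonempty_ext_linearEquiv_HH (A := k) (H23.PullPush.isFinLocFree_of_isInvertible hD)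
    (Coh.structureModule X) i
  obtain ⟨h⟩ := ExtShX.nonempty_HH_equiv_of_iso (A := k) (c' ≪≫ c) i
  haveI := CurveCohLib.finite_HH (k := k) hDc (2 - i)
  rw [← Subspace.dual_finrank_eq]
  exact ((e.symm.trans g).trans h).finrank_eq

include hdim hι hK in
/-- An invertible sheaf and its inverse have the same Euler characteristic. -/
theorem euler_inverse {D L : X.Modules} (hD : PicF.IsInvertible D)
    (eD : CohB1.tensorMod L D ≅ Coh.structureModule X) : Curv2.euler k X D = Curv2.euler k X L := by
  rw [euler_eq_three hdim, euler_eq_three hdim, finrank_inverse hdim ι hι hK hD eD 2 le_rfl,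
    ← finrank_inverse hdim ι hι hK hD eD 1 (by norm_num), ← finrank_inverse hdim ι hι hK hD eD 0 (Nat.zero_le _)]
  norm_num
  ring

end Groth.Agent.SurfStab

end
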