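import Groth.Agent.SurfStab.RankOne
import Groth.Agent.SurfStab.K3Duality
import Groth.Agent.AVDegPoly.RankMult
import Groth.Agent.Ref1X.GenericFree
import Groth.Agent.SheafHomX.Main

/-!
# Rank two stable sheaves with a section on a surface of Picard number one
-/

set_option linter.style.haveILetI false
set_option linter.unusedSectionVars false
set_option backward.isDefEq.respectTransparency false
set_option backward.isDefEq.respectTransparency.types false

universe u

open CategoryTheory CategoryTheory.Limits AlgebraicGeometry Polynomial StabCat TopologicalSpace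

noncomputable section

namespace Groth.Agent.SurfStab

open Groth.Agent Groth.Agent.ShStabLib Groth.Agent.HilbPoly

theorem coeff_one_eq_zero_of_eval {P : ℚ[X]} (hP : P.natDegree ≤ 2) (h : P.eval (-1) = P.eval 1) :
    alpha 1 P = 0 := by
  have e : ∀ x : ℚ, P.eval x = P.coeff 0 + P.coeff 1 * x + P.coeff 2 * x ^ 2 := fun x => by
    rw [Polynomial.eval_eq_sum_range' (Nat.lt_succ_of_le hP)]
    simp [Finset.sum_range_succ]
  rw [e, e] at h
  simp only [alpha, Nat.factorial_one, Nat.cast_one, one_mul]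
  linarith

theorem alpha_one_le_of_polyLT {P Q : ℚ[X]} (hP : P.natDegree ≤ 2) (hQ : Q.natDegree ≤ 2) {p q : ℚ}
    (htop : p * P.coeff 2 = q * Q.coeff 2) (h : PolyLT (p • P) (q • Q)) :
    p * alpha 1 P ≤ q * alpha 1 Q := by
  have e : ∀ {R : ℚ[X]}, R.natDegree ≤ 2 → ∀ x : ℚ, R.eval x = R.coeff 0 + R.coeff 1 * x + R.coeff 2 * x ^ 2 :=
    fun {R} hR x => by
      rw [Polynomial.eval_eq_sum_range' (Nat.lt_succ_of_le hR)]
      simp [Finset.sum_range_succ]
  obtain ⟨N, hN⟩ := h
  simp only [alpha, Nat.factorial_one, Nat.cast_one, one_mul]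
  by_contra hc
  have hc' : 0 < p * P.coeff 1 - q * Q.coeff 1 := by linarith
  obtain ⟨m, hm⟩ := exists_nat_gt ((q * Q.coeff 0 - p * P.coeff 0) / (p * P.coeff 1 - q * Q.coeff 1))
  have h1 := hN (max N m) (le_max_left _ _)
  simp only [eval_smul, smul_eq_mul, e hP, e hQ] at h1
  rw [div_lt_iff₀ hc'] at hm
  have h2 : ((m : ℕ) : ℚ) ≤ ((max N m : ℕ) : ℚ) := by exact_mod_cast le_max_right N m
  have h4 : p * P.coeff 2 * ((max N m : ℕ) : ℚ) ^ 2 = q * Q.coeff 2 * ((max N m : ℕ) : ℚ) ^ 2 := by rw [htop]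
  nlinarith [mul_le_mul_of_nonneg_right h2 hc'.le]

variable {k : Type u} [Field k] {X : Scheme.{u}} [X.Over (Spec (CommRingCat.of k))]
  [IsProper (X ↘ Spec (CommRingCat.of k))] [IsIntegral X] {L : X.Modules} (hdim : topologicalKrullDim X = 2)

include hdim in
theorem euler_eq_eval (hL : CohB1.IsAmple L) {M : X.Modules} (hM : Coh.IsCoh M) :
    (Curv2.euler k X M : ℚ) = (hp k L M).eval 0 := by
  have h := hp_spec (k := k) hL (tame_of_coh hdim hM) 0
  rw [Euler.euler_congr k (show ShStab.twist X L M 0 ≅ M from AmpleVan.twUnit.app M)] at h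
  simpa using h

include hdim in
/-- The multiplicity is the generic rank. -/
theorem a₂_eq_finrank (hL : CohB1.IsAmple L) {G : X.Modules} (hG : Coh.IsCoh G) :
    a₂ k L G = Module.finrank (X.presheaf.stalk (genericPoint X)) (G.presheaf.stalk (genericPoint X)) *
      a₂ k L (Coh.structureModule X) := by
  haveI : IsNoetherian X := CurveCohLib.isNoetherian_of_proper (k := k)
  obtain ⟨U, ⟨x, hxU⟩, ⟨e⟩⟩ := Ref1X.exists_open_free G hG.1 hG.2
  set r := Module.finrank (X.presheaf.stalk (genericPoint X)) (G.presheaf.stalk (genericPoint X)) with hr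
  have hd : topologicalKrullDim X = ((2 : ℕ) : WithBot ℕ∞) := hdim
  have hA := additive_lead (L := L) (additive_euler k) hL.1 2
  obtain ⟨hF, hFr⟩ := AVDegPoly.additive_freeMod hA r
  have hm : mult k L 2 G = r * mult k L 2 (Coh.structureModule X) := by
    refine Eq.trans (AVDegPoly.additive_eq_of_iso_restrict hA (U := U) (fun M hM hMs => ?_) hG hF
      (e ≪≫ (QCoh.freeModRestrict U.ι r).symm)) hFr
    refine iterD_eq_zero 2 (additive_euler k) _ List.length_replicate
      (fun N hN => (List.eq_of_mem_replicate hN) ▸ hL.1) M hM (dimLT_of_subset hMs ?_)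
    rw [← hd]
    exact H23.TopDim.dim_lt_of_ssubset (by rw [hd]; exact WithBot.coe_inj.not.2 (ENat.natCast_ne_top 2))
      U.2.isClosed_compl fun h => (h.ge (Set.mem_univ x) : x ∈ (U : Set X)ᶜ) hxU
  have h1 := hilb_props (k := k) hL.1 hG (tame_of_coh hdim hG).dim (hp_spec hL (tame_of_coh hdim hG))
  have h0 := hilb_props (k := k) hL.1 (RefX.isCoh_unit (X := X)) (tame_of_coh hdim RefX.isCoh_unit).dim
    (hp_spec hL (tame_of_coh hdim RefX.isCoh_unit))
  show alpha 2 _ = _ * alpha 2 _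
  rw [h1.2, h0.2, hm]
  push_cast
  rfl

include hdim in
theorem exists_gen_of_a₂ (hL : CohB1.IsAmple L) {G : X.Modules} (hG : Coh.IsCoh G)
    (h : a₂ k L G = a₂ k L (Coh.structureModule X)) : ∃ g : G.presheaf.stalk (genericPoint X), Ref1X.IsGen g := by
  have hr := a₂_eq_finrank (k := k) hdim hL hG
  rw [h] at hr
  have hA := pos_a₂_unit (k := k) hdim hL
  have h1 : Module.finrank (X.presheaf.stalk (genericPoint X)) (G.presheaf.stalk (genericPoint X)) = 1 := by
    have : (Module.finrank (X.presheaf.stalk (genericPoint X)) (G.presheaf.stalk (genericPoint X)) : ℚ) = 1 := by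
      nlinarith
    exact_mod_cast this
  letI : Field (X.presheaf.stalk (genericPoint X)) := inferInstanceAs (Field X.functionField)
  obtain ⟨g, hg0, hg⟩ := finrank_eq_one_iff'.1 h1
  exact ⟨g, smul_left_injective _ hg0, hg⟩

include hdim in
/-- A rank two sheaf with slope one half and a section is an extension. -/
theorem exists_extension [Smooth (X ↘ Spec (CommRingCat.of k))] [PicGrp.Law X] (hL : CohB1.IsAmple L)
    (hgen : ∀ c : PicLoc.PicSet X, ∃ n : ℤ, c = PicGrp.cls L hL.1 ^ n)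
    (hO1 : a₁ k L (Coh.structureModule X) = 0)
    {V : X.Modules} (hV : Coh.IsCoh V) (hinj : ∀ x, Function.Injective (Ref1X.gsp V x))
    (hV2 : a₂ k L V = 2 * a₂ k L (Coh.structureModule X)) (hV1 : a₁ k L V = a₂ k L (Coh.structureModule X))
    (hsub : ∀ (G : X.Modules) (γ : G ⟶ V), Mono γ → Coh.IsCoh G → a₂ k L G = a₂ k L (Coh.structureModule X) →
      2 * a₁ k L G ≤ a₂ k L (Coh.structureModule X))
    (a : Coh.structureModule X ⟶ V) (ha : a ≠ 0) :
    ∃ (N : X.Modules) (ι : N ⟶ L) (_ : Mono ι) (_ : Coh.IsCoh N)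
      (_ : topologicalKrullDim (CohB1.support (cokernel ι)) ≤ 0)
      (b : V ⟶ N) (w : a ≫ b = 0), (ShortComplex.mk a b w).ShortExact := by
  haveI : IsNoetherian X := CurveCohLib.isNoetherian_of_proper (k := k)
  have hO := RefX.isCoh_unit (X := X)
  have hA := pos_a₂_unit (k := k) hdim hL
  letI : Field (X.presheaf.stalk (genericPoint X)) := inferInstanceAs (Field X.functionField)
  have ha1 : RefHull.stalkMapₗ a (genericPoint X) (RefX.unitStalk (genericPoint X) 1) ≠ 0 := fun h0 => ha <| by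
    refine Ref1X.hom_ext_eta hinj fun v => ?_
    obtain ⟨c, rfl⟩ := (RefX.unitStalk (genericPoint X)).surjective v
    rw [← mul_one c, ← smul_eq_mul, map_smul, map_smul, h0, smul_zero]
    exact (ConcreteCategory.congr_hom ((DerSch.stalkFunctor X (genericPoint X)).map_zero _ _) _).symm
  haveI hamono : Mono a := LimMod.mono_of_stalks a fun x => (ModuleCat.mono_iff_injective _).2
    ((injective_iff_map_eq_zero (RefHull.stalkMapₗ a x)).2 fun m hm => by
      refine Ref1X.unit_gsp_injective (X := X) x ?_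
      obtain ⟨c, hc⟩ := (RefX.unitStalk (genericPoint X)).surjective (Ref1X.gsp (Coh.structureModule X) x m)
      have h1 := Ref1X.sp_stalkMap a (Ref1X.eta_le x) m
      rw [hm, map_zero, ← hc, ← mul_one c, ← smul_eq_mul, map_smul, map_smul] at h1
      have hc0 : c = 0 := (smul_eq_zero.1 h1.symm).resolve_right ha1
      rw [← hc, hc0, map_zero, map_zero])
  have hQc : Coh.IsCoh (cokernel a) := QCoh.isCoh_cokernel hO.1 hV a
  obtain ⟨eV2, -⟩ := invariants_add (k := k) hdim hL a (cokernel.π a) (cokernel.condition a)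
    { exact := ShortComplex.exact_cokernel a } hO hV hQc
  obtain ⟨gQ, hgQ⟩ := exists_gen_of_a₂ (k := k) hdim hL hQc (by linarith)
  let Q' := RefHull.ddual (cokernel a)
  let κ : cokernel a ⟶ Q' := RefHull.bidualMap (cokernel a)
  have hQ'c : Coh.IsCoh Q' := RefX.isCoh_dual (RefX.isCoh_dual hQc)
  have hQ'inj := Ref1X.gsp_injective hQ'c (Ref1X.isReflexive_ddual hQc)
  have hκ : Function.Bijective (RefHull.stalkMapₗ κ (genericPoint X)) :=
    Ref1X.bidual_bijective_of_free hQc _
      (Module.Free.of_equiv (LinearEquiv.ofBijective (LinearMap.toSpanSingleton _ _ gQ) hgQ))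
  obtain ⟨K, I, α, p, β, w', hfac, hα, hβ, hp', hse, hK, hI⟩ :=
    exists_factor (k := k) hV hQ'c (cokernel.π a ≫ κ)
  haveI := hα; haveI := hβ; haveI := hp'
  obtain ⟨eI2, eI1⟩ := invariants_add (k := k) hdim hL α p w' hse hK hV hI
  -- the image has rank one
  have hIinj := gsp_injective_of_mono β hQ'inj
  have hβs : Function.Bijective (RefHull.stalkMapₗ β (genericPoint X)) := by
    refine ⟨CurveBundle.stalkMap_injective β _, fun v => ?_⟩
    obtain ⟨q, rfl⟩ := hκ.2 v
    haveI := (DerSch.stalkFunctor X (genericPoint X)).map_epi (cokernel.π a)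
    obtain ⟨r, rfl⟩ := (ModuleCat.epi_iff_surjective
      ((DerSch.stalkFunctor X (genericPoint X)).map (cokernel.π a))).1 inferInstance q
    refine ⟨RefHull.stalkMapₗ p (genericPoint X) r, ?_⟩
    have h1 := LinearMap.congr_fun (congrArg (fun φ => RefHull.stalkMapₗ φ (genericPoint X)) hfac) r
    rw [RefFun.stalkMapₗ_comp, RefFun.stalkMapₗ_comp] at h1
    exact h1
  obtain ⟨gI, hgI⟩ := (LinearEquiv.ofBijective _ hβs).surjective (RefHull.stalkMapₗ κ _ gQ)
  have hgIgen : Ref1X.IsGen gI := by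
    have h1 := hgQ.map κ hκ
    rw [← hgI] at h1
    refine ⟨fun c d h => h1.1 ?_, fun v => ?_⟩
    · show c • RefHull.stalkMapₗ β _ gI = d • RefHull.stalkMapₗ β _ gI
      rw [← map_smul, ← map_smul]
      exact congrArg _ h
    · obtain ⟨c, hc⟩ := h1.2 (RefHull.stalkMapₗ β _ v)
      refine ⟨c, hβs.1 ?_⟩
      rw [map_smul]
      exact hc
  have hI2 : a₂ k L I = a₂ k L (Coh.structureModule X) := by
    rw [a₂_eq_finrank (k := k) hdim hL hI,
      ← (LinearEquiv.ofBijective (LinearMap.toSpanSingleton _ _ gI) hgIgen).finrank_eq, Module.finrank_self]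
    simp
  -- the saturation of the section
  have hK2 : a₂ k L K = a₂ k L (Coh.structureModule X) := by linarith
  let j : Coh.structureModule X ⟶ K := hse.fIsKernel.lift (KernelFork.ofι a (by
    rw [← cancel_mono β, Category.assoc, hfac, ← Category.assoc, cokernel.condition, Limits.zero_comp,
      Limits.zero_comp]))
  have hj : j ≫ α = a := hse.fIsKernel.fac _ WalkingParallelPair.zero
  haveI : Mono j := mono_of_mono_fac hj
  obtain ⟨gK, hgK⟩ := exists_gen_of_a₂ (k := k) hdim hL hK hK2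
  obtain ⟨M, μ, hM, hμ, hμd, hμs⟩ :=
    exists_invertible_envelope (k := k) hdim hK (gsp_injective_of_mono α hinj) hgK
  haveI := hμ
  have hMc := AmpleVan.isCoh_invertible hM
  have hjs : Function.Surjective (RefHull.stalkMapₗ j (genericPoint X)) := fun v => by
    have hv : RefHull.stalkMapₗ j (genericPoint X) (RefX.unitStalk (genericPoint X) 1) ≠ 0 := fun h0 => ha1 (by
      rw [← hj, RefFun.stalkMapₗ_comp, LinearMap.comp_apply, h0, map_zero])
    obtain ⟨c, hc⟩ := (Ref1X.one_dim hgK hv).2 v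
    exact ⟨c • RefX.unitStalk (genericPoint X) 1, (map_smul _ c _).trans hc⟩
  obtain ⟨hjT, -, ej1, hjn⟩ := invariants_of_mono hdim (k := k) hL hO hK j hjs
  obtain ⟨-, -, eμ1, -⟩ := invariants_of_mono hdim (k := k) hL hK hMc μ hμs
  have hμ0 : a₁ k L (cokernel μ) = 0 := hp_alpha_eq_zero (d := 1) hL (QCoh.isCoh_cokernel hK.1 hMc μ)
    (lt_of_le_of_lt hμd (by decide))
  obtain ⟨n, -, hn⟩ := exists_deg hdim (k := k) hL hgen hM
  have hsl := hsub K α hα hK hK2
  have hn0 : a₁ k L M = 0 := by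
    have h1 : (0 : ℚ) ≤ n := by nlinarith
    have h2 : (n : ℚ) < 1 := by nlinarith
    have h1' : (0 : ℤ) ≤ n := by exact_mod_cast h1
    have h2' : n < 1 := by exact_mod_cast h2
    have h3 : n = 0 := by omega
    rw [hn, h3, hO1]; simp
  have hiso : IsIso (j ≫ μ) := by
    obtain ⟨hQT, hQ2, hQ1, -⟩ := invariants_of_mono hdim (k := k) hL hO hMc (j ≫ μ) (by
      rw [RefFun.stalkMapₗ_comp]; exact hμs.comp hjs)
    exact StabHom.isIso_of_full (k := k) (d := 2) hL (normal_of_smooth (k := k)) hdim (by norm_num) hO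
      Ref1X.isReflexive_unit hMc (Div21Lib.isRef1_of_invertible hM).2.1 (j ≫ μ)
      (tame_of_coh hdim hQT.coh) (hp_alpha_eq_zero hL hQT.coh (lt_of_le_of_lt hQT.dim (by decide)))
      (show a₁ k L (cokernel (j ≫ μ)) = 0 by linarith)
  haveI : IsIso j := by
    haveI : Epi μ := epi_of_epi_fac (f := j) (g := μ) (h := j ≫ μ) rfl
    haveI : IsSplitEpi μ := IsSplitEpi.mk' ⟨inv (j ≫ μ) ≫ j, by rw [Category.assoc, IsIso.inv_hom_id]⟩
    haveI : IsIso μ := isIso_of_mono_of_isSplitEpi μ
    exact IsIso.of_isIso_comp_right j μ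
  -- the quotient
  obtain ⟨M', μ', hM', hμ', hμd', hμs'⟩ := exists_invertible_envelope (k := k) hdim hI hIinj hgIgen
  haveI := hμ'
  have hM'c := AmpleVan.isCoh_invertible hM'
  obtain ⟨-, -, eM'1, -⟩ := invariants_of_mono hdim (k := k) hL hI hM'c μ' hμs'
  have hμ'0 : a₁ k L (cokernel μ') = 0 := hp_alpha_eq_zero (d := 1) hL (QCoh.isCoh_cokernel hI.1 hM'c μ')
    (lt_of_le_of_lt hμd' (by decide))
  obtain ⟨n', -, hn'⟩ := exists_deg hdim (k := k) hL hgen hM'
  obtain ⟨eK2, eK1⟩ := invariants_iso (k := k) hdim hL hO (asIso j)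
  have hn1 : n' = 1 := by
    have h1 : ((n' : ℚ) - 1) * a₂ k L (Coh.structureModule X) = 0 := by nlinarith
    have h2 : (n' : ℚ) = 1 := by linarith [(mul_eq_zero.1 h1).resolve_right hA.ne']
    exact_mod_cast h2
  obtain ⟨m, hm⟩ := hgen (PicGrp.cls M' hM')
  have heq : PicGrp.cls M' hM' = PicGrp.cls L hL.1 := by
    rcases Int.eq_nat_or_neg m with ⟨q, rfl | rfl⟩
    · rw [zpow_natCast, ← ASB.cls_tensorPow hL.1] at hm
      obtain ⟨e⟩ := ASB.iso_of_cls hm
      obtain ⟨hT, -, h1⟩ := twistPow_invariants (k := k) hL (tame_of_coh hdim hO) q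
      obtain ⟨-, e1⟩ := invariants_iso (k := k) hdim hL hT.coh
        (CurveTensor.structureTensorIso (CohB1.tensorPow L q) ≪≫ e.symm)
      have h2 : ((q : ℚ) - 1) * a₂ k L (Coh.structureModule X) = 0 := by
        rw [hn1] at hn'; push_cast at hn'; linarith
      have h3 : (q : ℚ) = 1 := by linarith [(mul_eq_zero.1 h2).resolve_right hA.ne']
      have h4 : q = 1 := by exact_mod_cast h3
      rw [h4, ASB.cls_tensorPow hL.1, pow_one] at hm
      exact hm
    · exfalso
      have h' : PicGrp.cls M' hM' * PicGrp.cls (CohB1.tensorPow L q) (InvX.isInvertible_tensorPow hL.1 q) = 1 := by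
        rw [ASB.cls_tensorPow hL.1, hm, zpow_neg, zpow_natCast, inv_mul_cancel]
      obtain ⟨e⟩ := (PicGrp.cls_mul_cls_eq_one_iff hM' (InvX.isInvertible_tensorPow hL.1 q)).1 h'
      obtain ⟨hT, h2, h1⟩ := twistPow_invariants (k := k) hL (tame_of_coh hdim hM'c) q
      obtain ⟨e2, e1⟩ := invariants_iso (k := k) hdim hL hT.coh e
      rw [hn1] at hn'
      push_cast at hn'
      have : (0 : ℚ) ≤ q := Nat.cast_nonneg q
      rw [h2] at e2
      rw [h1, ← e2] at e1
      nlinarith
  obtain ⟨e⟩ := ASB.iso_of_cls heq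
  have w : a ≫ p = 0 := by rw [← hj, Category.assoc, w', Limits.comp_zero]
  refine ⟨I, μ' ≫ e.hom, inferInstance, hI, ?_, p, w, ?_⟩
  · have hc := QCoh.isCoh_cokernel hI.1 hM'c μ'
    have h0 : topologicalKrullDim ↥(CohB1.support (cokernel μ')) ≤ ((0 : ℕ) : WithBot ℕ∞) := hμd'
    exact ((Tame.mk hc h0).of_epi (QCoh.isCoh_cokernel hI.1 (AmpleVan.isCoh_invertible hL.1) (μ' ≫ e.hom))
      (cokernelCompIsIso μ' e.hom).inv).dim
  · exact ShortComplex.shortExact_of_iso (S₁ := ShortComplex.mk α p w')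
      (ShortComplex.isoMk (asIso j).symm (Iso.refl _) (Iso.refl _) (by simp [← hj]) (by simp)) hse

end Groth.Agent.SurfStab

end
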