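import Groth.Agent.SurfStab.PicClass

/-!
# Rank two bundles with a map from a line bundle
-/

set_option linter.style.haveILetI false
set_option linter.unusedSectionVars false
set_option backward.isDefEq.respectTransparency false
set_option backward.isDefEq.respectTransparency.types false

universe u

open CategoryTheory CategoryTheory.Limits AlgebraicGeometry Polynomial StabCat TopologicalSpace

noncomputable section

namespace Groth.Agent.SurfStab

open Groth.Agent Groth.Agent.ShStabLib Groth.Agent.HilbPoly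

variable {k : Type u} [Field k] {X : Scheme.{u}} [X.Over (Spec (CommRingCat.of k))]
  [IsProper (X ↘ Spec (CommRingCat.of k))] [IsIntegral X] {L : X.Modules} (hdim : topologicalKrullDim X = 2)

include k in
/-- Nonzero maps out of invertible sheaves into torsion-free sheaves are injective. -/
theorem mono_of_invertible {M V : X.Modules} (hM : PicF.IsInvertible M)
    (hinj : ∀ x, Function.Injective (Ref1X.gsp V x)) (a : M ⟶ V) (ha : a ≠ 0) : Mono a := by
  haveI : IsNoetherian X := CurveCohLib.isNoetherian_of_proper (k := k)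
  letI : Field (X.presheaf.stalk (genericPoint X)) := inferInstanceAs (Field X.functionField)
  obtain ⟨g, hg⟩ := Ref1X.exists_gen_eta (Div21Lib.isRef1_of_invertible hM).2.2
  have hag : RefHull.stalkMapₗ a (genericPoint X) g ≠ 0 := fun h0 => ha <| by
    refine Ref1X.hom_ext_eta hinj fun v => ?_
    obtain ⟨c, rfl⟩ := hg.2 v
    show RefHull.stalkMapₗ a _ (c • g) = RefHull.stalkMapₗ (0 : M ⟶ V) _ (c • g)
    rw [map_smul, h0, smul_zero]
    exact (ConcreteCategory.congr_hom ((DerSch.stalkFunctor X (genericPoint X)).map_zero _ _) _).symm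
  refine LimMod.mono_of_stalks a fun x => (ModuleCat.mono_iff_injective _).2
    ((injective_iff_map_eq_zero (RefHull.stalkMapₗ a x)).2 fun m hm => ?_)
  refine invertible_gsp_injective (k := k) hM x ?_
  obtain ⟨c, hc⟩ := hg.2 (Ref1X.gsp M x m)
  dsimp only at hc
  have h1 := Ref1X.sp_stalkMap a (Ref1X.eta_le x) m
  rw [hm, map_zero, ← hc, map_smul] at h1
  rw [← hc, (smul_eq_zero.1 h1.symm).resolve_right hag, zero_smul, map_zero]

include hdim in
/-- The saturation of a map from a line bundle into a reflexive rank two sheaf. -/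
theorem exists_saturation [Smooth (X ↘ Spec (CommRingCat.of k))] (hL : CohB1.IsAmple L)
    {V : X.Modules} (hV : Coh.IsCoh V) (hVr : RefHull.IsReflexive V)
    (hV2 : a₂ k L V = 2 * a₂ k L (Coh.structureModule X))
    {M₀ : X.Modules} (hM₀ : PicF.IsInvertible M₀) (hM₀2 : a₂ k L M₀ = a₂ k L (Coh.structureModule X))
    (a₀ : M₀ ⟶ V) (ha₀ : a₀ ≠ 0) :
    ∃ (M N M' : X.Modules) (_ : PicF.IsInvertible M) (_ : PicF.IsInvertible M') (μ : N ⟶ M') (_ : Mono μ)
      (_ : Coh.IsCoh N) (_ : topologicalKrullDim (CohB1.support (cokernel μ)) ≤ 0)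
      (a : M ⟶ V) (b : V ⟶ N) (w : a ≫ b = 0) (_ : Mono a),
      (ShortComplex.mk a b w).ShortExact ∧ a₂ k L M = a₂ k L (Coh.structureModule X) ∧
        a₁ k L M₀ ≤ a₁ k L M ∧ a₁ k L V = a₁ k L M + a₁ k L M' := by
  haveI : IsNoetherian X := CurveCohLib.isNoetherian_of_proper (k := k)
  have hA := pos_a₂_unit (k := k) hdim hL
  letI : Field (X.presheaf.stalk (genericPoint X)) := inferInstanceAs (Field X.functionField)
  have hinj := Ref1X.gsp_injective hV hVr
  have hM₀c := AmpleVan.isCoh_invertible hM₀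
  haveI := mono_of_invertible (k := k) hM₀ hinj a₀ ha₀
  have hQc : Coh.IsCoh (cokernel a₀) := QCoh.isCoh_cokernel hM₀c.1 hV a₀
  obtain ⟨eV2, -⟩ := invariants_add (k := k) hdim hL a₀ (cokernel.π a₀) (cokernel.condition a₀)
    { exact := ShortComplex.exact_cokernel a₀ } hM₀c hV hQc
  obtain ⟨gQ, hgQ⟩ := exists_gen_of_a₂ (k := k) hdim hL hQc (by linarith)
  let Q' := RefHull.ddual (cokernel a₀)
  let κ : cokernel a₀ ⟶ Q' := RefHull.bidualMap (cokernel a₀)
  have hQ'c : Coh.IsCoh Q' := RefX.isCoh_dual (RefX.isCoh_dual hQc)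
  have hQ'inj := Ref1X.gsp_injective hQ'c (Ref1X.isReflexive_ddual hQc)
  have hκ : Function.Bijective (RefHull.stalkMapₗ κ (genericPoint X)) :=
    Ref1X.bidual_bijective_of_free hQc _
      (Module.Free.of_equiv (LinearEquiv.ofBijective (LinearMap.toSpanSingleton _ _ gQ) hgQ))
  obtain ⟨K, I, α, p, β, w', hfac, hα, hβ, hp', hse, hK, hI⟩ :=
    exists_factor (k := k) hV hQ'c (cokernel.π a₀ ≫ κ)
  haveI := hα; haveI := hβ; haveI := hp'
  obtain ⟨eI2, eI1⟩ := invariants_add (k := k) hdim hL α p w' hse hK hV hI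
  -- the image has rank one
  have hIinj := gsp_injective_of_mono β hQ'inj
  have hβs : Function.Bijective (RefHull.stalkMapₗ β (genericPoint X)) := by
    refine ⟨CurveBundle.stalkMap_injective β _, fun v => ?_⟩
    obtain ⟨q, rfl⟩ := hκ.2 v
    haveI := (DerSch.stalkFunctor X (genericPoint X)).map_epi (cokernel.π a₀)
    obtain ⟨r, rfl⟩ := (ModuleCat.epi_iff_surjective
      ((DerSch.stalkFunctor X (genericPoint X)).map (cokernel.π a₀))).1 inferInstance q
    refine ⟨RefHull.stalkMapₗ p (genericPoint X) r, ?_⟩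
    have h1 := LinearMap.congr_fun (congrArg (fun φ => RefHull.stalkMapₗ φ (genericPoint X)) hfac) r
    rw [RefFun.stalkMapₗ_comp, RefFun.stalkMapₗ_comp] at h1
    exact h1
  have hI2 : a₂ k L I = a₂ k L (Coh.structureModule X) := by
    rw [a₂_eq_finrank (k := k) hdim hL hI, (LinearEquiv.ofBijective _ hβs).finrank_eq,
      ← (LinearEquiv.ofBijective _ hκ).finrank_eq,
      ← (LinearEquiv.ofBijective (LinearMap.toSpanSingleton _ _ gQ) hgQ).finrank_eq, Module.finrank_self]
    simp
  obtain ⟨gI, hgI⟩ := exists_gen_of_a₂ (k := k) hdim hL hI hI2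
  have hK2 : a₂ k L K = a₂ k L (Coh.structureModule X) := by linarith
  let j : M₀ ⟶ K := hse.fIsKernel.lift (KernelFork.ofι a₀ (by
    rw [← cancel_mono β, Category.assoc, hfac, ← Category.assoc, cokernel.condition, Limits.zero_comp,
      Limits.zero_comp]))
  have hj : j ≫ α = a₀ := hse.fIsKernel.fac _ WalkingParallelPair.zero
  haveI : Mono j := mono_of_mono_fac hj
  obtain ⟨gK, hgK⟩ := exists_gen_of_a₂ (k := k) hdim hL hK hK2
  obtain ⟨M, μ, hM, hμ, hμd, hμs⟩ :=
    exists_invertible_envelope (k := k) hdim hK (gsp_injective_of_mono α hinj) hgK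
  haveI := hμ
  have hMc := AmpleVan.isCoh_invertible hM
  -- the saturation is invertible
  have hμc : Coh.IsCoh (cokernel μ) := QCoh.isCoh_cokernel hK.1 hMc μ
  let T := (RefHull.stalkMapₗ α (genericPoint X)).comp
    (LinearEquiv.ofBijective _ ⟨CurveBundle.stalkMap_injective μ _, hμs⟩).symm.toLinearMap
  obtain ⟨ψ, hψ⟩ := Ref1X.exists_hom (normal_of_smooth (k := k)) hV hVr T fun y hy m => by
    obtain ⟨c, rfl⟩ := (StabHom.bijective_stalk μ y fun hm => by
      have h1 := (H23.TopDim.dim_le_dim_of_subset ((QCoh.isClosed_support_of_ft hμc.2).closure_subset_iff.2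
        (Set.singleton_subset_iff.2 hm))).trans hμd
      exact not_isClosed_of_coheight (k := k) hdim hy
        (isClosed_of_dim_closure (k := k) (lt_of_le_of_lt h1 (by decide)))).2 m
    refine ⟨RefHull.stalkMapₗ α y c, ?_⟩
    simp only [T, LinearMap.comp_apply, LinearEquiv.coe_coe]
    rw [Ref1X.sp_stalkMap, Ref1X.sp_stalkMap]
    refine congrArg _ ?_
    exact ((LinearEquiv.ofBijective _ ⟨CurveBundle.stalkMap_injective μ _, hμs⟩).symm_apply_apply _).symm
  have hψp : ψ ≫ p = 0 := Ref1X.hom_ext_eta hIinj fun v => by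
    rw [RefFun.stalkMapₗ_comp, hψ, LinearMap.comp_apply]
    exact (ConcreteCategory.congr_hom (ShortComplex.zero (ShortComplex.map (ShortComplex.mk α p w')
      (DerSch.stalkFunctor X (genericPoint X)))) _).trans
      (ConcreteCategory.congr_hom ((DerSch.stalkFunctor X (genericPoint X)).map_zero _ _) v).symm
  let r : M ⟶ K := hse.fIsKernel.lift (KernelFork.ofι ψ hψp)
  have hr : r ≫ α = ψ := hse.fIsKernel.fac _ WalkingParallelPair.zero
  have hrμ : r ≫ μ = 𝟙 M := Ref1X.hom_ext_eta (invertible_gsp_injective (k := k) hM) fun v => by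
    have h1 : RefHull.stalkMapₗ α (genericPoint X) (RefHull.stalkMapₗ r (genericPoint X) v) = T v := by
      rw [← hψ, ← hr, RefFun.stalkMapₗ_comp, LinearMap.comp_apply]
    have h2 := CurveBundle.stalkMap_injective α (genericPoint X) h1
    rw [RefFun.stalkMapₗ_comp, LinearMap.comp_apply, h2]
    exact ((LinearEquiv.ofBijective _ ⟨CurveBundle.stalkMap_injective μ _, hμs⟩).apply_symm_apply v).trans
      (ConcreteCategory.congr_hom ((DerSch.stalkFunctor X (genericPoint X)).map_id M) v).symm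
  haveI : IsSplitEpi μ := IsSplitEpi.mk' ⟨r, hrμ⟩
  haveI : IsIso μ := isIso_of_mono_of_isSplitEpi μ
  obtain ⟨eK2, eK1⟩ := invariants_iso (k := k) hdim hL hK (asIso μ)
  have hjs : Function.Surjective (RefHull.stalkMapₗ j (genericPoint X)) := fun v => by
    have hne : ¬ IsZero M₀ := fun hz => ha₀ (hz.eq_of_src _ _)
    obtain ⟨m, hm⟩ := surjective_eta_of_mono (k := k) hM (j ≫ μ) hne (RefHull.stalkMapₗ μ _ v)
    rw [RefFun.stalkMapₗ_comp] at hm
    exact ⟨m, CurveBundle.stalkMap_injective μ _ hm⟩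
  obtain ⟨-, -, ej1, hjn⟩ := invariants_of_mono hdim (k := k) hL hM₀c hK j hjs
  obtain ⟨M', μ', hM', hμ', hμd', hμs'⟩ := exists_invertible_envelope (k := k) hdim hI hIinj hgI
  haveI := hμ'
  have hM'c := AmpleVan.isCoh_invertible hM'
  obtain ⟨-, -, eM'1, -⟩ := invariants_of_mono hdim (k := k) hL hI hM'c μ' hμs'
  have hμ'0 : a₁ k L (cokernel μ') = 0 := hp_alpha_eq_zero (d := 1) hL (QCoh.isCoh_cokernel hI.1 hM'c μ')
    (lt_of_le_of_lt hμd' (by decide))
  have w : (inv μ ≫ α) ≫ p = 0 := by rw [Category.assoc, w', Limits.comp_zero]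
  refine ⟨M, I, M', hM, hM', μ', hμ', hI, hμd', inv μ ≫ α, p, w, inferInstance, ?_, ?_, ?_, ?_⟩
  · exact ShortComplex.shortExact_of_iso (S₁ := ShortComplex.mk α p w')
      (ShortComplex.isoMk (asIso μ) (Iso.refl _) (Iso.refl _) (by simp) (by simp)) hse
  · linarith
  · linarith
  · linarith

end Groth.Agent.SurfStab

end
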