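import Groth.Agent.SurfStab.RankTwo
import Groth.Agent.CurveCohLib.Clifford
import Groth.Agent.Big.Hodge
import Groth.Agent.Lib.AmpleEmbed

/-!
# Line bundles on K3 surfaces
-/

set_option linter.style.haveILetI false
set_option linter.unusedSectionVars false
set_option backward.isDefEq.respectTransparency false
set_option backward.isDefEq.respectTransparency.types false

universe u

open CategoryTheory CategoryTheory.Limits AlgebraicGeometry Polynomial StabCat TopologicalSpace
open Groth.Agent.H23.PicMul

noncomputable section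

namespace Groth.Agent.SurfStab

open Groth.Agent Groth.Agent.ShStabLib Groth.Agent.HilbPoly

variable {k : Type u} [Field k] {X : Scheme.{u}} [X.Over (Spec (CommRingCat.of k))]
  [IsProper (X ↘ Spec (CommRingCat.of k))]

/-- The pairing through Euler characteristics. -/
theorem pair_eq (L M : X.Modules) : Big.pair k L M = (Curv2.euler k X (Coh.structureModule X) : ℚ) -
    Curv2.euler k X L - Curv2.euler k X M + Curv2.euler k X (CohB1.tensorMod L M) := by
  have h1 : ∀ F : X.Modules, Big.alt k (![] : Fin 0 → X.Modules) F = (Curv2.euler k X F : ℚ) := fun F => by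
    rw [Big.alt, Fintype.sum_unique]
    simp only [Big.sgn, Fin.prod_univ_zero, one_mul, Snapper.χs]
    exact congrArg Int.cast (CurveCohLib.euler_congr (k := k) (cl_eq_iff.1 (by
      rw [Big.cl_tensorPows, Fin.prod_univ_zero, mul_one])).some)
  have h2 : ∀ A B : X.Modules, PicF.cl A = PicF.cl B → (Curv2.euler k X A : ℚ) = Curv2.euler k X B :=
    fun A B h => congrArg Int.cast (CurveCohLib.euler_congr (k := k) (cl_eq_iff.1 h).some)
  show Big.alt k (Fin.cons L (Fin.cons M ![])) _ = _
  rw [Big.alt_cons, Big.alt_cons, Big.alt_cons, h1, h1, h1, h1,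
    h2 (CohB1.tensorMod (Coh.structureModule X) M) M (by rw [cl_tensor, Big.one_mul_cl]),
    h2 (CohB1.tensorMod (Coh.structureModule X) L) L (by rw [cl_tensor, Big.one_mul_cl]),
    h2 (CohB1.tensorMod (CohB1.tensorMod (Coh.structureModule X) L) M) (CohB1.tensorMod L M)
      (by simp only [cl_tensor, Big.one_mul_cl])]
  ring

variable [IsIntegral X] (hdim : topologicalKrullDim X = 2)

include hdim in
theorem a₂_invertible {H : X.Modules} (hH : CohB1.IsAmple H) {L : X.Modules} (hL : PicF.IsInvertible L) :
    a₂ k H L = a₂ k H (Coh.structureModule X) := by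
  haveI : IsNoetherian X := CurveCohLib.isNoetherian_of_proper (k := k)
  obtain ⟨g, hg⟩ := Ref1X.exists_gen_eta (Div21Lib.isRef1_of_invertible hL).2.2
  rw [a₂_eq_finrank (k := k) hdim hH (AmpleVan.isCoh_invertible hL),
    ← (LinearEquiv.ofBijective (LinearMap.toSpanSingleton _ _ g) hg).finrank_eq, Module.finrank_self]
  simp

include hdim in
/-- The degree as a linear coefficient. -/
theorem a₁_eq_pair {H : X.Modules} (hH : CohB1.IsAmple H) {L : X.Modules} (hL : PicF.IsInvertible L) :
    a₁ k H L = a₁ k H (Coh.structureModule X) + Big.pair k L H := by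
  haveI : IsNoetherian X := CurveCohLib.isNoetherian_of_proper (k := k)
  have hO := RefX.isCoh_unit (X := X)
  have hLc := AmpleVan.isCoh_invertible hL
  obtain ⟨hTL, hLp⟩ := hp_twist (k := k) hH (tame_of_coh hdim hLc)
  obtain ⟨hTO, hOp⟩ := hp_twist (k := k) hH (tame_of_coh hdim hO)
  rw [← hp_iso (k := k) hH hTO (CurveTensor.structureTensorIso H)] at hOp
  have e := a₂_invertible (k := k) hdim hH hL
  have hnat : ∀ {R : ℚ[X]}, R.natDegree ≤ 2 → ∀ x : ℚ, R.eval x = R.coeff 0 + R.coeff 1 * x + R.coeff 2 * x ^ 2 :=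
    fun {R} hR x => by
      rw [Polynomial.eval_eq_sum_range' (Nat.lt_succ_of_le hR)]
      simp [Finset.sum_range_succ]
  rw [pair_eq, euler_eq_eval (k := k) hdim hH hO, euler_eq_eval (k := k) hdim hH hLc,
    euler_eq_eval (k := k) hdim hH (AmpleVan.isCoh_invertible hH.1), euler_eq_eval (k := k) hdim hH hTL.coh,
    hOp, hLp, eval_comp, eval_comp, hnat (hp_natDegree hH (tame_of_coh hdim hLc)),
    hnat (hp_natDegree hH (tame_of_coh hdim hLc)), hnat (hp_natDegree hH (tame_of_coh hdim hO)),
    hnat (hp_natDegree hH (tame_of_coh hdim hO))]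
  simp only [a₁, a₂, alpha, Nat.factorial_one, Nat.factorial_two, Nat.cast_one, one_mul, Nat.cast_ofNat] at e ⊢
  simp only [eval_add, eval_X, eval_one]
  linarith

variable [Smooth (X ↘ Spec (CommRingCat.of k))]

include hdim in
/-- An effective sheaf of degree zero is trivial. -/
theorem iso_unit_of_section {H : X.Modules} (hH : CohB1.IsAmple H) {L : X.Modules} (hL : PicF.IsInvertible L)
    (h : Big.pair k L H = 0) (s : Coh.structureModule X ⟶ L) (hs : s ≠ 0) :
    Nonempty (Coh.structureModule X ≅ L) := by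
  haveI : IsNoetherian X := CurveCohLib.isNoetherian_of_proper (k := k)
  have hO := RefX.isCoh_unit (X := X)
  haveI : Mono s := InvEnd.mono_of_ne_zero InvX.isInvertible_structureModule hL s hs
  have hO0 : ¬ IsZero (Coh.structureModule X) := fun hz => hs (hz.eq_of_src _ _)
  obtain ⟨hQT, -, e1, -⟩ := invariants_of_mono hdim (k := k) hH hO (AmpleVan.isCoh_invertible hL) s
    (surjective_eta_of_mono (k := k) hL s hO0)
  have hL1 := a₁_eq_pair (k := k) hdim hH hL
  haveI := StabHom.isIso_of_full (k := k) (d := 2) hH (normal_of_smooth (k := k)) hdim (by norm_num) hO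
    Ref1X.isReflexive_unit (AmpleVan.isCoh_invertible hL) (Div21Lib.isRef1_of_invertible hL).2.1 s
    (tame_of_coh hdim hQT.coh) (hp_alpha_eq_zero hH hQT.coh (lt_of_le_of_lt hQT.dim (by decide)))
    (show a₁ k H (cokernel s) = 0 by linarith)
  exact ⟨asIso s⟩

variable [IsAlgClosed k] {N : ℕ} (ι : X ⟶ CohB1.ProjSpace N k) [IsClosedImmersion ι]
  (hι : ι ≫ CohB1.ProjSpace.toSpec N k = X ↘ Spec (CommRingCat.of k))
  (hK : Canon.IsTopDiff (X ↘ Spec (CommRingCat.of k)) 2 (Coh.structureModule X))

include hdim hι hK in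
/-- The cohomology of the structure sheaf of a K3 surface. -/
theorem h2_unit : Module.finrank k (Coh.HH X (Coh.structureModule X) 2) = 1 := by
  rw [← CurveCohLib.Clifford.finrank_h0_structure k (X := X),
    finrank_inverse hdim ι hι hK InvX.isInvertible_structureModule
      (CurveTensor.structureTensorIso (Coh.structureModule X)) 2 le_rfl]

include hdim hι hK in
theorem euler_unit (hq : Module.finrank k (Coh.HH X (Coh.structureModule X) 1) = 0) :
    Curv2.euler k X (Coh.structureModule X) = 2 := by
  rw [euler_eq_three hdim, hq, h2_unit hdim ι hι hK, CurveCohLib.Clifford.finrank_h0_structure k]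
  norm_num

include hdim hι hK in
/-- A sheaf with the invariants of the trivial one is trivial. -/
theorem iso_unit_of_numeric (hq : Module.finrank k (Coh.HH X (Coh.structureModule X) 1) = 0)
    {H : X.Modules} (hH : CohB1.IsAmple H) {L : X.Modules} (hL : PicF.IsInvertible L)
    (hpair : Big.pair k L H = 0)
    (hχ : Curv2.euler k X L = Curv2.euler k X (Coh.structureModule X)) :
    Nonempty (L ≅ Coh.structureModule X) := by
  haveI : IsNoetherian X := CurveCohLib.isNoetherian_of_proper (k := k)
  obtain ⟨D, hD, ⟨eD⟩⟩ := H23.PicInv.exists_inverse hL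
  have hLD : PicF.cl L * PicF.cl D = 1 := Big.cl_mul_eq_one ⟨eD⟩
  have h2 : Module.finrank k (Coh.HH X L 2) = Module.finrank k (Coh.HH X D 0) :=
    (finrank_inverse hdim ι hι hK hD eD 2 le_rfl).symm
  rw [euler_unit hdim ι hι hK hq, euler_eq_three hdim] at hχ
  have key : ∀ M : X.Modules, PicF.IsInvertible M → Big.pair k M H = 0 → 0 < Module.finrank k (Coh.HH X M 0) →
      Nonempty (Coh.structureModule X ≅ M) := fun M hM hp hpos => by
    haveI := CurveCohLib.finite_HH (k := k) (AmpleVan.isCoh_invertible hM) 0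
    obtain ⟨v, hv⟩ := Module.finrank_pos_iff_exists_ne_zero.1 hpos
    obtain ⟨s, rfl⟩ := SheafHomX.cls_surjective v
    refine iso_unit_of_section hdim hH hM hp s fun h0 => hv ?_
    subst h0
    exact (congrArg (Sheaf.H.equiv₀ (Coh.toAb M) isTerminalTop).symm (show InvX.one (0 : Coh.structureModule X ⟶ M) = 0
      from rfl)).trans (map_zero _)
  rcases Nat.eq_zero_or_pos (Module.finrank k (Coh.HH X L 0)) with h | h
  · obtain ⟨e⟩ := key D hD (by rw [Big.pair_inverse k hdim.le hL hD hLD hH.1, hpair, neg_zero]) (by omega)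
    refine ⟨(cl_eq_iff.1 ?_).some⟩
    rw [← cl_eq_iff.2 ⟨e⟩, ← H23.PicMul.one_def, mul_one] at hLD
    rw [hLD, H23.PicMul.one_def]
  · obtain ⟨e⟩ := key L hL hpair h
    exact ⟨e.symm⟩

end Groth.Agent.SurfStab

end
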