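import Groth.Agent.SurfStab.LMEuler
import Groth.Agent.Lib.AmpleEmbed

/-!
# Self-duality of endomorphism sheaves and cohomology of Lazarsfeld–Mukai bundles
-/

set_option linter.style.haveILetI false
set_option linter.unusedSectionVars false
set_option backward.isDefEq.respectTransparency false
set_option backward.isDefEq.respectTransparency.types false
set_option maxHeartbeats 1000000

universe u

open CategoryTheory CategoryTheory.Limits AlgebraicGeometry TopologicalSpace
open Groth.Agent.H23.PicMul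

noncomputable section

namespace Groth.Agent.SurfStab

open Groth.Agent PnCoh.Finite

variable {k : Type u} [Field k] {X : Scheme.{u}} [X.Over (Spec (CommRingCat.of k))] [IsIntegral X]
  [IsProper (X ↘ Spec (CommRingCat.of k))]

omit [IsIntegral X] [IsProper (X ↘ Spec (CommRingCat.of k))] in
include k in
/-- Vanishing in the middle of a short exact sequence. -/
theorem subsingleton_HH_middle {S : ShortComplex X.Modules} (hS : S.ShortExact) (n : ℕ)
    [Subsingleton (Coh.HH X S.X₁ n)] [Subsingleton (Coh.HH X S.X₃ n)] : Subsingleton (Coh.HH X S.X₂ n) :=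
  subsingleton_of_forall_eq 0 fun y => by
    have h1 : y ∈ LinearMap.ker (mapLin k S.g n) := LinearMap.mem_ker.2 (Subsingleton.elim _ _)
    rw [← Euler.range_mapLin_f k hS n] at h1
    obtain ⟨z, rfl⟩ := h1
    rw [Subsingleton.elim z 0, map_zero]

omit [IsIntegral X] in
include k in
/-- An exact functor killing the cohomology of `O` in degree `p` kills it on free modules. -/
theorem subsingleton_HH_map_free (Φ : X.Modules ⥤ X.Modules) [Φ.PreservesZeroMorphisms]
    (hΦ : ∀ {S : ShortComplex X.Modules}, S.ShortExact → (S.map Φ).ShortExact) (p : ℕ)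
    [Subsingleton (Coh.HH X (Φ.obj (Coh.structureModule X)) p)] : ∀ n : ℕ,
    Subsingleton (Coh.HH X (Φ.obj (FlatMod.freeMod X n)) p)
  | 0 => Euler.subsingleton_HH_of_isZero (Functor.map_isZero Φ (freeMod_zero_isZero X)) p
  | n + 1 => by
    let S := (ShortComplex.mk (firstIn X n) (restOut X n) (firstIn_restOut X n)).map Φ
    haveI : Subsingleton (Coh.HH X S.X₁ p) := ‹_›
    haveI : Subsingleton (Coh.HH X S.X₃ p) := subsingleton_HH_map_free Φ hΦ p n
    exact subsingleton_HH_middle (k := k) (S := S) (hΦ (splitting X n).shortExact) p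

include k in
/-- The kernel of a map which is bijective on sections has neither sections nor first cohomology. -/
theorem kernel_vanish (hq : Module.finrank k (Coh.HH X (Coh.structureModule X) 1) = 0) {P : X.Modules} (e : ℕ)
    (lam : FlatMod.freeMod X e ⟶ P) [Epi lam]
    (hlam : Function.Bijective (Sheaf.H.map ((SheafOfModules.toSheaf _).map lam) 0)) :
    Subsingleton (Coh.HH X (kernel lam) 0) ∧ Subsingleton (Coh.HH X (kernel lam) 1) := by
  haveI : IsNoetherian X := CurveCohLib.isNoetherian_of_proper (k := k)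
  let S : ShortComplex X.Modules := ShortComplex.mk (kernel.ι lam) lam (kernel.condition lam)
  have hS : S.ShortExact :=
    { exact := ShortComplex.exact_kernel lam, mono_f := inferInstance, epi_g := ‹Epi lam› }
  haveI := CurveCohLib.finite_HH (k := k) (RefX.isCoh_unit (X := X)) 1
  haveI : Subsingleton (Coh.HH X ((𝟭 X.Modules).obj (Coh.structureModule X)) 1) :=
    (Module.finrank_zero_iff.1 hq : Subsingleton (Coh.HH X (Coh.structureModule X) 1))
  haveI h1 : Subsingleton (Coh.HH X S.X₂ 1) := subsingleton_HH_map_free (k := k) (𝟭 X.Modules) (fun h => h) 1 e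
  have hb : Function.Bijective (mapLin k S.g 0) := hlam
  refine ⟨subsingleton_of_forall_eq 0 fun y => ?_, subsingleton_of_forall_eq 0 fun y => ?_⟩
  · have h2 : mapLin k S.f 0 y ∈ LinearMap.ker (mapLin k S.g 0) := by
      rw [← Euler.range_mapLin_f k hS 0]; exact ⟨y, rfl⟩
    rw [LinearMap.ker_eq_bot.2 hb.1, Submodule.mem_bot] at h2
    exact (LinearMap.ker_eq_bot.1 (Euler.ker_mapLin_f_zero k hS)) (h2.trans (map_zero _).symm)
  · have h2 : y ∈ LinearMap.ker (mapLin k S.f 1) := LinearMap.mem_ker.2 (Subsingleton.elim _ _)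
    rw [← Euler.range_deltaLin k hS 0] at h2
    obtain ⟨z, rfl⟩ := h2
    obtain ⟨w, rfl⟩ := hb.2 z
    have h3 : mapLin k S.g 0 w ∈ LinearMap.ker (deltaLin k hS 0) := by
      rw [← Euler.range_mapLin_g k hS 0]; exact ⟨w, rfl⟩
    exact h3

theorem isReflexive_of_isFinLocFree {F : X.Modules} (hF : FlatMod.IsFinLocFree F) [IsLocallyNoetherian X] :
    RefHull.IsReflexive F := by
  have hc := CurveDeg.isCoh_of_isFinLocFree hF
  refine (RefX.isReflexive_iff hc).2 fun x => ?_
  haveI := QCoh.free_stalk_of_isFinLocFree hF x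
  haveI := QCoh.finite_stalk_of_isFT hc.1 hc.2 x
  exact (inferInstance : Module.IsReflexive (X.presheaf.stalk x) (F.presheaf.stalk x))

variable (hdim : topologicalKrullDim X = 2) [Smooth (X ↘ Spec (CommRingCat.of k))] {N : ℕ}
  (ι : X ⟶ CohB1.ProjSpace N k) [IsClosedImmersion ι]
  (hι : ι ≫ CohB1.ProjSpace.toSpec N k = X ↘ Spec (CommRingCat.of k))
  (hK : Canon.IsTopDiff (X ↘ Spec (CommRingCat.of k)) 2 (Coh.structureModule X))

include hdim hι hK in
/-- Serre duality for a bundle on a K3 surface. -/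
theorem finrank_hom_structure {F : X.Modules} (hF : FlatMod.IsFinLocFree F) (p : ℕ) (hp : p ≤ 2) :
    Module.finrank k (Coh.HH X ((SheafHomX.hom F).obj (Coh.structureModule X)) (2 - p)) =
      Module.finrank k (Coh.HH X F p) := by
  haveI : IsNoetherian X := CurveCohLib.isNoetherian_of_proper (k := k)
  haveI := smoothOfRelativeDimension_two (k := k) hdim
  obtain ⟨e⟩ := ExtShX.SmoothDual.nonempty_dual_HH (n := 2) (ι : X ⟶ PnVan.P k N) hι hK hF p hp
  haveI := CurveCohLib.finite_HH (k := k) (CurveDeg.isCoh_of_isFinLocFree hF) p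
  rw [← e.finrank_eq, Subspace.dual_finrank_eq]

include hdim hι hK in
/-- `h^p(End F) = h^{2-p}(End F)`. -/
theorem finrank_end_symm {F : X.Modules} (hF : FlatMod.IsFinLocFree F) (p : ℕ) (hp : p ≤ 2) :
    Module.finrank k (Coh.HH X ((SheafHomX.hom F).obj F) (2 - p)) =
      Module.finrank k (Coh.HH X ((SheafHomX.hom F).obj F) p) := by
  haveI : IsNoetherian X := CurveCohLib.isNoetherian_of_proper (k := k)
  let O := Coh.structureModule X
  let D := (SheafHomX.hom F).obj O
  let D' := RefHull.dual F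
  obtain ⟨dO⟩ := ExtShX.nonempty_hom_iso_homSh_of_locFree hF O
  have hOl : FlatMod.IsFinLocFree O := H23.PullPush.isFinLocFree_of_isInvertible InvX.isInvertible_structureModule
  have hD : FlatMod.IsFinLocFree D' := CurveHom.isFinLocFree_homSh hF hOl
  obtain ⟨dd⟩ := ExtShX.nonempty_hom_iso_homSh_of_locFree hD O
  haveI : IsIso (RefHull.bidualMap F) := isReflexive_of_isFinLocFree hF
  let G := (AmpleVan.tw D').obj F
  let eG : (SheafHomX.hom F).obj F ≅ G := (ExtShX.dualTensorIso hF F).symm ≪≫
    ((DCoh.tensorBi (X := X)).obj F).mapIso dO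
  have hG : FlatMod.IsFinLocFree G := H23.PullPush.isFinLocFree_of_iso (CurveTensor.commIso D' F)
    (KFlatLib.isFinLocFree_tensor hD hF)
  let ρ : SheafHomX.hom D' ⋙ SheafHomX.hom F ≅ SheafHomX.hom G :=
    Adjunction.rightAdjointUniq (((SheafHomX.adj F).comp (SheafHomX.adj D')).ofNatIsoLeft
      (AmpleVan.twComp F D')) (SheafHomX.adj G)
  let bd : (SheafHomX.hom D').obj O ≅ F := dd ≪≫ (asIso (RefHull.bidualMap F)).symm
  let eH : (SheafHomX.hom G).obj O ≅ (SheafHomX.hom F).obj F :=
    (ρ.app O).symm ≪≫ (SheafHomX.hom F).mapIso bd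
  obtain ⟨a⟩ := ExtShX.nonempty_HH_equiv_of_iso (A := k) eH (2 - p)
  obtain ⟨b⟩ := ExtShX.nonempty_HH_equiv_of_iso (A := k) eG p
  rw [← a.finrank_eq, b.finrank_eq]
  exact finrank_hom_structure hdim ι hι hK hG p hp

include hdim hι hK in
/-- `h¹(F^∨ ⊗ i_*A) = h⁰(End F)` for a kernel without `h⁰` and `h¹`. -/
theorem finrank_h1_dual_tensor {e : ℕ} {P : X.Modules} (lam : FlatMod.freeMod X e ⟶ P) [Epi lam]
    (hP : Coh.IsCoh P) (hF : FlatMod.IsFinLocFree (kernel lam))
    (h0 : Subsingleton (Coh.HH X (kernel lam) 0)) (h1 : Subsingleton (Coh.HH X (kernel lam) 1)) :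
    Module.finrank k (Coh.HH X (CohB1.tensorMod (RefHull.dual (kernel lam)) P) 1) =
      Module.finrank k (Coh.HH X ((SheafHomX.hom (kernel lam)).obj (kernel lam)) 0) := by
  haveI : IsNoetherian X := CurveCohLib.isNoetherian_of_proper (k := k)
  let F := kernel lam
  let O := Coh.structureModule X
  let D' := RefHull.dual F
  obtain ⟨dO⟩ := ExtShX.nonempty_hom_iso_homSh_of_locFree hF O
  have hOl : FlatMod.IsFinLocFree O := H23.PullPush.isFinLocFree_of_isInvertible InvX.isInvertible_structureModule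
  have hD : FlatMod.IsFinLocFree D' := CurveHom.isFinLocFree_homSh hF hOl
  have hFc := CurveDeg.isCoh_of_isFinLocFree hF
  let T := (DCoh.tensorBi (X := X)).obj D'
  haveI : T.Additive := Functor.additive_of_preserves_binary_products _
  have hTe : ∀ {S : ShortComplex X.Modules}, S.ShortExact → (S.map T).ShortExact := fun {S} hS =>
    CurveTensor.shortExact_tensor hD S.f S.g S.zero hS
  let S : ShortComplex X.Modules := ShortComplex.mk (kernel.ι lam) lam (kernel.condition lam)
  have hS : S.ShortExact :=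
    { exact := ShortComplex.exact_kernel lam, mono_f := inferInstance, epi_g := ‹Epi lam› }
  have hvan : ∀ p : ℕ, p ≤ 2 → Module.finrank k (Coh.HH X F p) = 0 →
      Subsingleton (Coh.HH X (T.obj O) (2 - p)) := fun p hp h => by
    obtain ⟨a⟩ := ExtShX.nonempty_HH_equiv_of_iso (A := k) (KFlatLib.tensorUnitIso D' ≪≫ dO.symm) (2 - p)
    haveI := CurveCohLib.finite_HH (k := k) (CurveTensor.isCoh_tensor hD (RefX.isCoh_unit (X := X))) (2 - p)
    refine Module.finrank_zero_iff.1 (a.finrank_eq.trans ?_)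
    rw [finrank_hom_structure hdim ι hι hK hF p hp, h]
  haveI : Subsingleton (Coh.HH X (T.obj O) 1) := hvan 1 (by norm_num) Module.finrank_zero_of_subsingleton
  haveI : Subsingleton (Coh.HH X (T.obj O) 2) := hvan 0 (Nat.zero_le _) Module.finrank_zero_of_subsingleton
  haveI := subsingleton_HH_map_free (k := k) T hTe 1 e
  haveI := subsingleton_HH_map_free (k := k) T hTe 2 e
  have hT := hTe hS
  let δ := deltaLin k hT 1
  have hinj : Function.Injective δ := LinearMap.ker_eq_bot.1 ((Submodule.eq_bot_iff _).2 fun y hy => by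
    rw [← Euler.range_mapLin_g k hT 1] at hy
    obtain ⟨w, rfl⟩ := hy
    haveI : Subsingleton (Coh.HH X (S.map T).X₂ 1) := ‹_›
    rw [Subsingleton.elim w 0, map_zero])
  have hsurj : Function.Surjective δ := fun y => by
    haveI : Subsingleton (Coh.HH X (S.map T).X₂ 2) := ‹_›
    have h : y ∈ LinearMap.ker (mapLin k (S.map T).f 2) := LinearMap.mem_ker.2 (Subsingleton.elim _ _)
    rw [← Euler.range_deltaLin k hT 1] at h
    exact h
  have hδ : Module.finrank k (Coh.HH X (T.obj P) 1) = Module.finrank k (Coh.HH X (T.obj F) 2) :=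
    (LinearEquiv.ofBijective δ ⟨hinj, hsurj⟩).finrank_eq
  let eE : T.obj F ≅ (SheafHomX.hom F).obj F := CurveTensor.commIso D' F ≪≫
    ((DCoh.tensorBi (X := X)).obj F).mapIso dO.symm ≪≫ ExtShX.dualTensorIso hF F
  obtain ⟨c⟩ := ExtShX.nonempty_HH_equiv_of_iso (A := k) eE 2
  exact hδ.trans (c.finrank_eq.trans (finrank_end_symm hdim ι hι hK hF 0 (Nat.zero_le _)))

end Groth.Agent.SurfStab
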