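import Groth.Agent.StabHom.Iso
import Groth.Agent.Ref1X.Big
import Groth.Agent.Div21Lib.ClPic
import Groth.Agent.Div21Lib.Invertible
import Groth.Agent.TorLib.Basic
import Groth.Agent.ASB.Pic
import Groth.Agent.Lib.InvEnd
import Groth.Agent.GrpSchLib.SmoothRegular
import Groth.Agent.SmoothReg.Scheme
import Groth.Agent.QCoh.SupportFT

/-!
# Hilbert polynomials of rank one sheaves on a surface
-/

set_option linter.style.haveILetI false
set_option linter.unusedSectionVars false
set_option backward.isDefEq.respectTransparency false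
set_option backward.isDefEq.respectTransparency.types false

universe u

open CategoryTheory CategoryTheory.Limits AlgebraicGeometry Polynomial StabCat TopologicalSpace

noncomputable section

namespace Groth.Agent.SurfStab

open Groth.Agent Groth.Agent.ShStabLib Groth.Agent.HilbPoly

theorem alpha_comp (P : ℚ[X]) (h : P.natDegree ≤ 2) :
    alpha 2 (P.comp (X + 1)) = alpha 2 P ∧ alpha 1 (P.comp (X + 1)) = alpha 1 P + alpha 2 P := by
  have e : P = C (P.coeff 0) + C (P.coeff 1) * X + C (P.coeff 2) * X ^ 2 := by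
    conv_lhs => rw [P.as_sum_range_C_mul_X_pow' (Nat.lt_succ_of_le h)]
    simp [Finset.sum_range_succ]
  have e' : P.comp (X + 1) =
      C (P.coeff 0 + P.coeff 1 + P.coeff 2) + C (P.coeff 1 + 2 * P.coeff 2) * X + C (P.coeff 2) * X ^ 2 := by
    conv_lhs => rw [e]
    simp only [add_comp, mul_comp, C_comp, X_comp, pow_comp, map_add, map_mul, map_ofNat]
    ring
  rw [e']
  unfold alpha
  constructor <;> simp [coeff_C, coeff_X, coeff_X_pow, Nat.factorial] <;> ring

variable {k : Type u} [Field k] {X : Scheme.{u}} [X.Over (Spec (CommRingCat.of k))]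
  [IsProper (X ↘ Spec (CommRingCat.of k))] {L : X.Modules}

/-- Multiplicity-type invariants. -/
abbrev a₁ (k : Type u) [Field k] {X : Scheme.{u}} [X.Over (Spec (CommRingCat.of k))] (L F : X.Modules) : ℚ :=
  alpha 1 (hp k L F)

/-- Multiplicity-type invariants. -/
abbrev a₂ (k : Type u) [Field k] {X : Scheme.{u}} [X.Over (Spec (CommRingCat.of k))] (L F : X.Modules) : ℚ :=
  alpha 2 (hp k L F)

/-- Twisting shifts the Hilbert polynomial. -/
theorem hp_twist (hL : CohB1.IsAmple L) {d : ℕ} {F : X.Modules} (hF : Tame d F) :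
    Tame d (CohB1.tensorMod F L) ∧ hp k L (CohB1.tensorMod F L) = (hp k L F).comp (Polynomial.X + 1) := by
  haveI : IsNoetherian X := CurveCohLib.isNoetherian_of_proper (k := k)
  have hT : Tame d (CohB1.tensorMod F L) := ⟨AmpleVan.isCoh_tensor hF.coh (AmpleVan.isCoh_invertible hL.1),
    (H23.TopDim.dim_le_dim_of_subset (support_tensor_subset F L)).trans hF.dim⟩
  refine ⟨hT, hp_eq hL hT fun m => ?_⟩
  obtain ⟨c⟩ := H23.PicMul.comm L (CohB1.tensorPow L m)
  let e : ShStab.twist X L (CohB1.tensorMod F L) m ≅ ShStab.twist X L F (m + 1) :=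
    (((KFlatLib.tensorAssocSch X).app F).app L).app (CohB1.tensorPow L m) ≪≫ (DCoh.tensorBi.obj F).mapIso c
  rw [Euler.euler_congr k e, hp_spec hL hF (m + 1), eval_comp]
  simp

theorem twist_invariants (hL : CohB1.IsAmple L) {F : X.Modules} (hF : Tame 2 F) :
    Tame 2 (CohB1.tensorMod F L) ∧ a₂ k L (CohB1.tensorMod F L) = a₂ k L F ∧
      a₁ k L (CohB1.tensorMod F L) = a₁ k L F + a₂ k L F := by
  obtain ⟨hT, he⟩ := hp_twist (k := k) hL hF
  rw [a₂, a₁, he]
  exact ⟨hT, alpha_comp _ (hp_natDegree hL hF)⟩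

theorem twistPow_invariants (hL : CohB1.IsAmple L) {F : X.Modules} (hF : Tame 2 F) : ∀ n : ℕ,
    Tame 2 (CohB1.tensorMod F (CohB1.tensorPow L n)) ∧
      a₂ k L (CohB1.tensorMod F (CohB1.tensorPow L n)) = a₂ k L F ∧
      a₁ k L (CohB1.tensorMod F (CohB1.tensorPow L n)) = a₁ k L F + n * a₂ k L F
  | 0 => by
    let e : CohB1.tensorMod F (CohB1.tensorPow L 0) ≅ F := AmpleVan.twUnit.app F
    refine ⟨hF.of_epi (isCoh_of_iso e.symm hF.coh) e.inv, ?_, ?_⟩ <;> simp [a₂, a₁, hp_iso (k := k) hL hF e.symm]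
  | n + 1 => by
    obtain ⟨hT, h2, h1⟩ := twistPow_invariants hL hF n
    obtain ⟨hT', h2', h1'⟩ := twist_invariants (k := k) hL hT
    let e : CohB1.tensorMod (CohB1.tensorMod F (CohB1.tensorPow L n)) L ≅
        CohB1.tensorMod F (CohB1.tensorPow L (n + 1)) :=
      (((KFlatLib.tensorAssocSch X).app F).app (CohB1.tensorPow L n)).app L
    refine ⟨hT'.of_epi (isCoh_of_iso e hT'.coh) e.hom, ?_, ?_⟩
    · rw [a₂, hp_iso (k := k) hL hT' e]; exact h2'.trans h2
    · rw [a₁, hp_iso (k := k) hL hT' e]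
      refine h1'.trans ?_
      rw [h1, h2]; push_cast; ring

variable [IsIntegral X] (hdim : topologicalKrullDim X = 2)

include hdim in
theorem tame_of_coh {F : X.Modules} (hF : Coh.IsCoh F) : Tame 2 F :=
  ⟨hF, (topologicalKrullDim_subspace_le X _).trans hdim.le⟩

include hdim in
/-- A rank one line bundle, with the Picard group generated by the polarisation. -/
theorem exists_deg [PicGrp.Law X] (hL : CohB1.IsAmple L)
    (hgen : ∀ c : PicLoc.PicSet X, ∃ n : ℤ, c = PicGrp.cls L hL.1 ^ n) {M : X.Modules} (hM : PicF.IsInvertible M) :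
    ∃ n : ℤ, a₂ k L M = a₂ k L (Coh.structureModule X) ∧
      a₁ k L M = a₁ k L (Coh.structureModule X) + n * a₂ k L (Coh.structureModule X) := by
  haveI : IsNoetherian X := CurveCohLib.isNoetherian_of_proper (k := k)
  have hO : Tame 2 (Coh.structureModule X) := tame_of_coh hdim RefX.isCoh_unit
  have hMc : Tame 2 M := tame_of_coh hdim (AmpleVan.isCoh_invertible hM)
  obtain ⟨n, hn⟩ := hgen (PicGrp.cls M hM)
  refine ⟨n, ?_⟩
  obtain ⟨m, rfl | rfl⟩ := Int.eq_nat_or_neg n
  · rw [zpow_natCast, ← ASB.cls_tensorPow hL.1] at hn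
    obtain ⟨e⟩ := ASB.iso_of_cls hn
    obtain ⟨hT, h2, h1⟩ := twistPow_invariants (k := k) hL hO m
    let e' : CohB1.tensorMod (Coh.structureModule X) (CohB1.tensorPow L m) ≅ M :=
      CurveTensor.structureTensorIso (CohB1.tensorPow L m) ≪≫ e.symm
    constructor
    · rw [a₂, hp_iso (k := k) hL hT e']; exact h2
    · rw [a₁, hp_iso (k := k) hL hT e']; simpa using h1
  · have h' : PicGrp.cls M hM * PicGrp.cls (CohB1.tensorPow L m) (InvX.isInvertible_tensorPow hL.1 m) = 1 := by
      rw [ASB.cls_tensorPow hL.1, hn, zpow_neg, zpow_natCast, inv_mul_cancel]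
    obtain ⟨e⟩ := (PicGrp.cls_mul_cls_eq_one_iff hM (InvX.isInvertible_tensorPow hL.1 m)).1 h'
    obtain ⟨hT, h2, h1⟩ := twistPow_invariants (k := k) hL hMc m
    rw [a₂, ← hp_iso (k := k) hL hT e] at h2
    rw [a₁, ← hp_iso (k := k) hL hT e, ← h2] at h1
    refine ⟨h2.symm, ?_⟩
    push_cast
    linarith

include k in
theorem isClosed_of_dim_closure {η : X} (h : topologicalKrullDim ↥(closure ({η} : Set X)) < 1) :
    IsClosed ({η} : Set X) := by
  have hd := VarDim.topologicalKrullDim_closure_singleton (X ↘ Spec (CommRingCat.of k)) η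
  rw [hd] at h
  refine (VarDim.closedPoint_iff_deg_eq_zero (X ↘ Spec (CommRingCat.of k)) η).2 ?_
  have : VarDim.deg (X ↘ Spec (CommRingCat.of k)) η < 1 := by exact_mod_cast h
  omega

include k hdim in
theorem not_isClosed_of_coheight {η : X} (hη : Order.coheight η = 1) : ¬ IsClosed ({η} : Set X) := fun hc => by
  have h := SmoothReg.ringKrullDim_stalk_closedPoint (X ↘ Spec (CommRingCat.of k)) hc
  rw [ringKrullDim_stalk_eq_coheight, hη, hdim] at h
  exact absurd h (by decide)

include k in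
theorem genericPoint_notMem_support {A B : X.Modules} (φ : A ⟶ B) [Mono φ]
    (h : Function.Surjective (RefHull.stalkMapₗ φ (genericPoint X))) :
    genericPoint X ∉ CohB1.support (cokernel φ) := by
  refine fun hm => hm ?_
  have hseq : (ShortComplex.mk φ (cokernel.π φ) (cokernel.condition φ)).ShortExact :=
    { exact := ShortComplex.exact_cokernel φ }
  have h3 := hseq.map_of_exact (DerSch.stalkFunctor X (genericPoint X))
  haveI := h3.epi_g
  have hs := (ModuleCat.epi_iff_surjective _).1 h3.epi_g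
  refine subsingleton_of_forall_eq 0 fun y => ?_
  obtain ⟨b, rfl⟩ := hs y
  obtain ⟨a, rfl⟩ := h b
  exact ConcreteCategory.congr_hom (ShortComplex.zero (ShortComplex.map (ShortComplex.mk φ (cokernel.π φ) (cokernel.condition φ)) (DerSch.stalkFunctor X (genericPoint X)))) a

include hdim in
/-- Torsion modules have dimension at most one. -/
theorem dim_le_one {Q : X.Modules} (hQ : Coh.IsCoh Q) (h : genericPoint X ∉ CohB1.support Q) : Tame 1 Q := by
  refine ⟨hQ, StabHom.le_of_lt_succ' ?_⟩
  have hcl := QCoh.isClosed_support_of_ft hQ.2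
  have := H23.TopDim.dim_lt_of_ssubset (X := X) (by rw [hdim]; decide) hcl
    (fun e => h (e ▸ Set.mem_univ _))
  rwa [hdim] at this

/-- Torsion-free modules embed in their generic stalk. -/
theorem gsp_injective {F : X.Modules} (hF : Coh.IsQCoh F) (htf : TorSh.IsTorsionFree F) (x : X) :
    Function.Injective (Ref1X.gsp F x) := by
  refine (injective_iff_map_eq_zero _).2 fun v hv => ?_
  obtain ⟨U, hxU, s, rfl⟩ := F.presheaf.exists_germ_eq v
  rw [Ref1X.sp_germ] at hv
  rw [TorLib.eq_zero_of_germ_genericPoint hF htf _ s hv, map_zero]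

include hdim in
/-- A monomorphism surjective at the generic point: the invariants of the source and the target. -/
theorem invariants_of_mono (hL : CohB1.IsAmple L) {A B : X.Modules} (hA : Coh.IsCoh A) (hB : Coh.IsCoh B)
    (φ : A ⟶ B) [Mono φ] (h : Function.Surjective (RefHull.stalkMapₗ φ (genericPoint X))) :
    Tame 1 (cokernel φ) ∧ a₂ k L A = a₂ k L B ∧ a₁ k L B = a₁ k L A + a₁ k L (cokernel φ) ∧
      0 ≤ a₁ k L (cokernel φ) := by
  haveI : IsNoetherian X := CurveCohLib.isNoetherian_of_proper (k := k)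
  have hQc : Coh.IsCoh (cokernel φ) := QCoh.isCoh_cokernel hA.1 hB φ
  have hQ := dim_le_one hdim hQc (genericPoint_notMem_support (k := k) φ h)
  have hsum := StabHom.hp_add' (k := k) hL φ (cokernel.π φ) (cokernel.condition φ)
    { exact := ShortComplex.exact_cokernel φ } hA (tame_of_coh hdim hB) hQc
  have h0 : a₂ k L (cokernel φ) = 0 :=
    hp_alpha_eq_zero (k := k) hL hQc (lt_of_le_of_lt hQ.dim (by decide))
  obtain ⟨e2, e1⟩ := StabHom.alpha_sum (d := 2) hsum
  refine ⟨hQ, ?_, e1, hp_alpha_nonneg hL hQ⟩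
  simp only [a₂] at h0 ⊢
  rw [e2, h0, add_zero]

end Groth.Agent.SurfStab

end
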