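import Groth.Agent.SurfStab.Basic

/-!
# Subsheaves of invertible sheaves on a surface of Picard number one
-/

set_option linter.style.haveILetI false
set_option linter.unusedSectionVars false
set_option backward.isDefEq.respectTransparency false
set_option backward.isDefEq.respectTransparency.types false

universe u

open CategoryTheory CategoryTheory.Limits AlgebraicGeometry Polynomial StabCat TopologicalSpace

noncomputable section

namespace Groth.Agent.SurfStab

open Groth.Agent Groth.Agent.ShStabLib Groth.Agent.HilbPoly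

variable {k : Type u} [Field k] {X : Scheme.{u}} [X.Over (Spec (CommRingCat.of k))]
  [IsProper (X ↘ Spec (CommRingCat.of k))] {L : X.Modules} [IsIntegral X]

include k in
theorem normal_of_smooth [Smooth (X ↘ Spec (CommRingCat.of k))] : Pi1.IsNormalScheme X :=
  Ref1X.isNormalScheme_of_regular fun x =>
    GrpSchLib.isRegularLocalRing_stalk_of_smooth (X ↘ Spec (CommRingCat.of k)) x

include k in
theorem invertible_gsp_injective {M : X.Modules} (hM : PicF.IsInvertible M) (x : X) :
    Function.Injective (Ref1X.gsp M x) := by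
  haveI : IsNoetherian X := CurveCohLib.isNoetherian_of_proper (k := k)
  exact Ref1X.gsp_injective (Div21Lib.isRef1_of_invertible hM).1 (Div21Lib.isRef1_of_invertible hM).2.1 x

/-- Subsheaves of modules embedded in their generic stalk are embedded in their generic stalk. -/
theorem gsp_injective_of_mono {F G : X.Modules} (ι : G ⟶ F) [Mono ι]
    (h : ∀ x, Function.Injective (Ref1X.gsp F x)) (x : X) : Function.Injective (Ref1X.gsp G x) :=
  fun a b e => CurveBundle.stalkMap_injective ι x (h x (by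
    have e' : RefHull.stalkMapₗ ι (genericPoint X) (Ref1X.gsp G x a) =
        RefHull.stalkMapₗ ι (genericPoint X) (Ref1X.gsp G x b) := by rw [e]
    exact (Ref1X.sp_stalkMap ι (Ref1X.eta_le x) a).trans (e'.trans (Ref1X.sp_stalkMap ι (Ref1X.eta_le x) b).symm)))

include k in
/-- Modules embedded in their generic stalk are pure of dimension two. -/
theorem isPure_of_injective (hdim : topologicalKrullDim X = 2) {F : X.Modules}
    (hinj : ∀ x, Function.Injective (Ref1X.gsp F x)) : ShStab.IsPure X F 2 := by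
  haveI : IsNoetherian X := CurveCohLib.isNoetherian_of_proper (k := k)
  intro G ι hι hG h0
  haveI := hι
  have hu : CohB1.support G = Set.univ := by
    obtain ⟨x, hx⟩ : ∃ x, ¬ Subsingleton (G.presheaf.stalk x) := by
      by_contra hc
      push Not at hc
      exact h0 (CurveCohLib.isZero_of_subsingleton_stalks hc)
    refine Set.eq_univ_of_forall fun y hy => hx ⟨fun a b => gsp_injective_of_mono ι hinj x ?_⟩
    letI : Field (X.presheaf.stalk (genericPoint X)) := inferInstanceAs (Field X.functionField)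
    have hz : ∀ v : G.presheaf.stalk (genericPoint X), v = 0 := fun v => by
      haveI := hy
      obtain ⟨r, hr0, m, hm⟩ := Ref1X.exists_smul_eq_gsp hG.1 y v
      rw [Subsingleton.elim m 0, map_zero] at hm
      exact (smul_eq_zero.1 hm).resolve_left fun h => hr0 (Ref1X.spR_injective y (h.trans (map_zero _).symm))
    rw [hz (Ref1X.gsp G x a), hz (Ref1X.gsp G x b)]
  rw [hu]
  exact (IsHomeomorph.topologicalKrullDim_eq _ (Homeomorph.Set.univ X).isHomeomorph).trans hdim

include k in
/-- A nonzero subsheaf of an invertible module is everything at the generic point. -/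
theorem surjective_eta_of_mono {M K : X.Modules} (hM : PicF.IsInvertible M) (j : K ⟶ M) [Mono j]
    (hK0 : ¬ IsZero K) : Function.Surjective (RefHull.stalkMapₗ j (genericPoint X)) := by
  haveI : IsNoetherian X := CurveCohLib.isNoetherian_of_proper (k := k)
  obtain ⟨v, hv⟩ : ∃ v, RefHull.stalkMapₗ j (genericPoint X) v ≠ 0 := by
    by_contra hc
    push Not at hc
    refine hK0 (IsZero.of_mono_eq_zero j (Ref1X.hom_ext_eta (invertible_gsp_injective (k := k) hM) fun v => ?_))
    rw [hc v]
    exact (ConcreteCategory.congr_hom ((DerSch.stalkFunctor X (genericPoint X)).map_zero K M) v).symm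
  obtain ⟨g, hg⟩ := Ref1X.exists_gen_eta (Div21Lib.isRef1_of_invertible hM).2.2
  intro w
  obtain ⟨c, hc⟩ := (Ref1X.one_dim hg hv).2 w
  exact ⟨c • v, (map_smul _ c v).trans hc⟩

variable (hdim : topologicalKrullDim X = 2)

include hdim in
/-- Either a subsheaf of an invertible module loses at least one unit of degree, or it is everything in
codimension one. -/
theorem lt_or_surjective [Smooth (X ↘ Spec (CommRingCat.of k))] [PicGrp.Law X] (hL : CohB1.IsAmple L)
    (hgen : ∀ c : PicLoc.PicSet X, ∃ n : ℤ, c = PicGrp.cls L hL.1 ^ n) {N : X.Modules} (hN : PicF.IsInvertible N)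
    {K : X.Modules} (hK : Coh.IsCoh K)
    (j : K ⟶ N) [Mono j] (hK0 : ¬ IsZero K) :
    a₁ k L K + a₂ k L (Coh.structureModule X) ≤ a₁ k L N ∨
      (a₁ k L K ≤ a₁ k L N ∧ ∀ y : X, Order.coheight y = 1 → Function.Surjective (RefHull.stalkMapₗ j y)) := by
  classical
  haveI : IsNoetherian X := CurveCohLib.isNoetherian_of_proper (k := k)
  have hX := normal_of_smooth (k := k) (X := X)
  have hgenj := surjective_eta_of_mono (k := k) hN j hK0
  have hNr := Div21Lib.isRef1_of_invertible (X := X) hN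
  obtain ⟨-, -, e0, hn0⟩ := invariants_of_mono hdim (k := k) hL hK hNr.1 j hgenj
  refine or_iff_not_imp_right.2 fun hns => ?_
  obtain ⟨η, hη, hnsurj⟩ : ∃ η : X, Order.coheight η = 1 ∧ ¬ Function.Surjective (RefHull.stalkMapₗ j η) := by
    by_contra hc
    push Not at hc
    exact hns ⟨by linarith, hc⟩
  obtain ⟨g, hg⟩ := Ref1X.exists_gen_eta hNr.2.2
  obtain ⟨t, ht⟩ := Ref1X.exists_gen_of_coheight_one hX hNr hη
  have htη : Ref1X.gsp N η t ≠ 0 := fun h0 =>
    ((Ref1X.ne_zero_of_gen hNr.1 ht (φ := 1)).2 one_ne_zero) ((one_smul _ _).trans h0)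
  have hj : ∀ m, RefHull.stalkMapₗ j η m ≠ 0 →
      1 ≤ Ref1X.ordF N (Ref1X.gsp N η (RefHull.stalkMapₗ j η m)) η := fun m hm0 => by
    obtain ⟨c, hc⟩ := ht.2 (RefHull.stalkMapₗ j η m)
    dsimp only at hc
    have hcu : ¬ IsUnit c := fun hu => hnsurj fun v => by
      obtain ⟨d, rfl⟩ := ht.2 v
      obtain ⟨u, rfl⟩ := hu
      refine ⟨(d * ↑u⁻¹) • m, ?_⟩
      rw [map_smul, ← hc, ← mul_smul, mul_assoc, Units.inv_mul, mul_one]
    have hc0 : c ≠ 0 := fun h0 => hm0 (by rw [← hc, h0, zero_smul])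
    have hsc : Ref1X.spR X (Ref1X.eta_le η) c ≠ 0 :=
      fun h0 => hc0 (Ref1X.spR_injective η (h0.trans (map_zero _).symm))
    rw [← hc, Ref1X.sp_smul, Ref1X.ordF_smul hX hNr hη htη hsc]
    have h0 := (Ref1X.mem_range_gsp hX hNr hη htη).1 ⟨t, rfl⟩
    obtain ⟨U, hU, a, rfl⟩ := X.presheaf.exists_germ_eq c
    rw [Ref1X.spR_germ] at hsc ⊢
    have := Ref1X.OD.one_le_ord (hX := hX) hU hη hsc hcu
    omega
  have hgne : g ≠ 0 := fun h0 => one_ne_zero (α := X.functionField) (hg.1 (a₁ := 1) (a₂ := 0) (by simp [h0]))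
  have hfin : ∀ V : X.Opens, IsAffineOpen V →
      {z : X | z ∈ V ∧ Ref1X.ordF N g z - (if z = η then 1 else 0) ≠ 0 ∧ Order.coheight z = 1}.Finite := fun V hV =>
    ((Ref1X.finite_ordF_ne_zero hX hNr hgne hV).union (Set.finite_singleton η)).subset fun z hz => by
      by_cases h : z = η
      · exact Or.inr h
      · exact Or.inl ⟨hz.1, hz.2.2, by simpa [h] using hz.2.1⟩
  obtain ⟨M, hM, s, hs, hord⟩ := Div21Lib.exists_invertible_of_ufd hX
    (D := fun z => if Order.coheight z = 1 then Ref1X.ordF N g z - (if z = η then 1 else 0) else 0)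
    (fun x => by
      haveI := GrpSchLib.isRegularLocalRing_stalk_of_smooth (X ↘ Spec (CommRingCat.of k)) x
      obtain ⟨_, h⟩ := RegUFD.ufd (X.presheaf.stalk x)
      exact h)
    (fun V hV => (hfin V hV).subset fun z hz => by
      by_cases h : Order.coheight z = 1
      · exact ⟨hz.1, by simpa [h] using hz.2, h⟩
      · exact absurd (if_neg h) hz.2)
    (fun z hz => if_neg hz)
  have hMr := Div21Lib.isRef1_of_invertible (X := X) hM
  have hord' : ∀ y : X, Order.coheight y = 1 →
      Ref1X.ordF M s y = Ref1X.ordF N g y - (if y = η then 1 else 0) := fun y hy => by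
    rw [hord y hy, if_pos hy]
  have hsg := Ref1X.one_dim (Ref1X.exists_gen_eta hMr.2.2).choose_spec hs
  -- the generic identification
  let eM : X.presheaf.stalk (genericPoint X) ≃ₗ[X.presheaf.stalk (genericPoint X)] M.presheaf.stalk (genericPoint X) :=
    LinearEquiv.ofBijective (LinearMap.toSpanSingleton _ _ s) hsg
  let eN : X.presheaf.stalk (genericPoint X) ≃ₗ[X.presheaf.stalk (genericPoint X)] N.presheaf.stalk (genericPoint X) :=
    LinearEquiv.ofBijective (LinearMap.toSpanSingleton _ _ g) hg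
  let T : N.presheaf.stalk (genericPoint X) ≃ₗ[X.presheaf.stalk (genericPoint X)] M.presheaf.stalk (genericPoint X) :=
    eN.symm.trans eM
  have hT1 : ∀ c, T (c • g) = c • s := fun c => congrArg eM (eN.symm_apply_apply c)
  obtain ⟨φ, hφ⟩ := Ref1X.exists_hom hX hMr.1 hMr.2.1
    (T.toLinearMap.comp (RefHull.stalkMapₗ j (genericPoint X))) fun y hy m => by
      obtain ⟨c, hc⟩ := hg.2 (Ref1X.gsp N y (RefHull.stalkMapₗ j y m))
      dsimp only at hc
      rw [LinearMap.comp_apply, LinearEquiv.coe_coe, ← Ref1X.sp_stalkMap j (Ref1X.eta_le y) m, ← hc, hT1]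
      by_cases hc0 : c = 0
      · exact ⟨0, by rw [hc0, map_zero, zero_smul]⟩
      refine (Ref1X.mem_range_gsp hX hMr hy (Ref1X.smul_ne_zero' hsg hc0)).2 ?_
      rw [Ref1X.ordF_smul hX hMr hy hs hc0, hord' y hy]
      have h1 := (Ref1X.mem_range_gsp hX hNr hy (Ref1X.smul_ne_zero' hg hc0)).1 ⟨_, hc.symm⟩
      rw [Ref1X.ordF_smul hX hNr hy hgne hc0] at h1
      by_cases h : y = η
      · subst h
        have h2 := hj m fun h0 => Ref1X.smul_ne_zero' hg hc0 (hc.trans (by rw [h0, map_zero]))
        rw [← hc, Ref1X.ordF_smul hX hNr hy hgne hc0] at h2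
        rw [if_pos rfl]; omega
      · rw [if_neg h]; omega
  obtain ⟨ψ, hψ⟩ := Ref1X.exists_hom hX hNr.1 hNr.2.1 T.symm.toLinearMap fun y hy m => by
      obtain ⟨c, hc⟩ := hsg.2 (Ref1X.gsp M y m)
      dsimp only at hc
      have hTs : T.symm (c • s) = c • g := by rw [← hT1, LinearEquiv.symm_apply_apply]
      rw [LinearEquiv.coe_coe, ← hc, hTs]
      by_cases hc0 : c = 0
      · exact ⟨0, by rw [hc0, map_zero, zero_smul]⟩
      refine (Ref1X.mem_range_gsp hX hNr hy (Ref1X.smul_ne_zero' hg hc0)).2 ?_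
      have h1 := (Ref1X.mem_range_gsp hX hMr hy (Ref1X.smul_ne_zero' hsg hc0)).1 ⟨_, hc.symm⟩
      rw [Ref1X.ordF_smul hX hMr hy hs hc0, hord' y hy] at h1
      rw [Ref1X.ordF_smul hX hNr hy hgne hc0]
      split_ifs at h1 <;> omega
  have hψ0 : ψ ≠ 0 := fun h0 => hgne (by
    have h1 := LinearMap.congr_fun hψ s
    rw [LinearEquiv.coe_coe, show T.symm s = g from T.symm_apply_eq.2 (by simpa only [one_smul] using (hT1 1).symm), h0] at h1
    exact h1.symm.trans (ConcreteCategory.congr_hom ((DerSch.stalkFunctor X (genericPoint X)).map_zero M N) s))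
  haveI : Mono ψ := InvEnd.mono_of_ne_zero hM hN ψ hψ0
  have hfac : φ ≫ ψ = j := Ref1X.hom_ext_eta (invertible_gsp_injective (k := k) hN) fun v => by
    rw [RefFun.stalkMapₗ_comp, hφ, hψ]
    simp
  haveI : Mono φ := mono_of_mono_fac hfac
  obtain ⟨hQ, -, e1, hn1⟩ := invariants_of_mono hdim (k := k) hL hMr.1 hNr.1 ψ (by rw [hψ]; exact T.symm.surjective)
  obtain ⟨-, -, e1', hn1'⟩ := invariants_of_mono hdim (k := k) hL hK hMr.1 φ (by rw [hφ]; exact T.surjective.comp hgenj)
  have hmem : η ∈ CohB1.support (cokernel ψ) := by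
    intro hsub
    obtain ⟨m, hm⟩ := (StabHom.bijective_stalk ψ η (fun hh => hh hsub)).2 t
    have h1 := congrArg (Ref1X.gsp N η) hm
    rw [Ref1X.sp_stalkMap ψ (Ref1X.eta_le η) m, hψ, LinearEquiv.coe_coe] at h1
    obtain ⟨c, hc⟩ := hsg.2 (Ref1X.gsp M η m)
    dsimp only at hc
    rw [← hc, show T.symm (c • s) = c • g by rw [← hT1, LinearEquiv.symm_apply_apply]] at h1
    have hc0 : c ≠ 0 := fun h0 => htη (by rw [← h1, h0, zero_smul])
    have h2 := (Ref1X.mem_range_gsp hX hMr hη (Ref1X.smul_ne_zero' hsg hc0)).1 ⟨_, hc.symm⟩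
    rw [Ref1X.ordF_smul hX hMr hη hs hc0, hord' η hη, if_pos rfl] at h2
    have h3 : Ref1X.ordF N (c • g) η = 0 := by
      rw [h1, Ref1X.ordF_eq hNr.1 hη ht (φ := (1 : X.presheaf.stalk (genericPoint X))) one_ne_zero (one_smul _ _).symm]
      exact Ref1X.OD.ord_one η
    rw [Ref1X.ordF_smul hX hNr hη hgne hc0] at h3
    omega
  have hpos : 0 < a₁ k L (cokernel ψ) := by
    refine lt_of_le_of_ne hn1 fun h0 => not_isClosed_of_coheight (k := k) hdim hη ?_
    refine isClosed_of_dim_closure (k := k) (lt_of_le_of_lt (H23.TopDim.dim_le_dim_of_subset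
      ((QCoh.isClosed_support_of_ft hQ.coh.2).closure_subset_iff.2 (Set.singleton_subset_iff.2 hmem))) ?_)
    exact_mod_cast StabHom.dim_lt_of_alpha_eq_zero hL hQ h0.symm
  obtain ⟨nM, -, hnM⟩ := exists_deg hdim (k := k) hL hgen hM
  obtain ⟨nN, -, hnN⟩ := exists_deg hdim (k := k) hL hgen hN
  have ha : 0 ≤ a₂ k L (Coh.structureModule X) := hp_alpha_nonneg hL (tame_of_coh hdim RefX.isCoh_unit)
  have hlt : nM < nN := by
    by_contra hc
    have h0 : (nN : ℚ) ≤ nM := by exact_mod_cast (show nN ≤ nM by omega)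
    nlinarith
  have hle : (nM : ℚ) + 1 ≤ nN := by exact_mod_cast hlt
  nlinarith

end Groth.Agent.SurfStab

end
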