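import Groth.Agent.SurfStab.RankTwo

/-!
# Classes of line bundles from their degree
-/

set_option linter.style.haveILetI false
set_option linter.unusedSectionVars false
set_option backward.isDefEq.respectTransparency false
set_option backward.isDefEq.respectTransparency.types false

universe u

open CategoryTheory CategoryTheory.Limits AlgebraicGeometry Polynomial StabCat TopologicalSpace

noncomputable section

namespace Groth.Agent.SurfStab

open Groth.Agent Groth.Agent.ShStabLib Groth.Agent.HilbPoly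

variable {k : Type u} [Field k] {X : Scheme.{u}} [X.Over (Spec (CommRingCat.of k))]
  [IsProper (X ↘ Spec (CommRingCat.of k))] [IsIntegral X] {L : X.Modules} (hdim : topologicalKrullDim X = 2)

include hdim in
theorem invariants_of_cls [PicGrp.Law X] (hL : CohB1.IsAmple L) {M : X.Modules} (hM : PicF.IsInvertible M) (n : ℤ)
    (hn : PicGrp.cls M hM = PicGrp.cls L hL.1 ^ n) :
    a₂ k L M = a₂ k L (Coh.structureModule X) ∧
      a₁ k L M = a₁ k L (Coh.structureModule X) + n * a₂ k L (Coh.structureModule X) := by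
  haveI : IsNoetherian X := CurveCohLib.isNoetherian_of_proper (k := k)
  have hO : Tame 2 (Coh.structureModule X) := tame_of_coh hdim RefX.isCoh_unit
  have hMc : Tame 2 M := tame_of_coh hdim (AmpleVan.isCoh_invertible hM)
  obtain ⟨m, rfl | rfl⟩ := Int.eq_nat_or_neg n
  · rw [zpow_natCast, ← ASB.cls_tensorPow hL.1] at hn
    obtain ⟨e⟩ := ASB.iso_of_cls hn
    obtain ⟨hT, h2, h1⟩ := twistPow_invariants (k := k) hL hO m
    obtain ⟨e2, e1⟩ := invariants_iso (k := k) hdim hL hT.coh
      (CurveTensor.structureTensorIso (CohB1.tensorPow L m) ≪≫ e.symm)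
    exact ⟨e2.trans h2, by rw [e1]; simpa using h1⟩
  · have h' : PicGrp.cls M hM * PicGrp.cls (CohB1.tensorPow L m) (InvX.isInvertible_tensorPow hL.1 m) = 1 := by
      rw [ASB.cls_tensorPow hL.1, hn, zpow_neg, zpow_natCast, inv_mul_cancel]
    obtain ⟨e⟩ := (PicGrp.cls_mul_cls_eq_one_iff hM (InvX.isInvertible_tensorPow hL.1 m)).1 h'
    obtain ⟨hT, h2, h1⟩ := twistPow_invariants (k := k) hL hMc m
    obtain ⟨e2, e1⟩ := invariants_iso (k := k) hdim hL hT.coh e
    rw [h2] at e2
    rw [h1, ← e2] at e1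
    refine ⟨e2.symm, ?_⟩
    push_cast
    linarith

include hdim in
theorem cls_of_a₁ [PicGrp.Law X] (hL : CohB1.IsAmple L)
    (hgen : ∀ c : PicLoc.PicSet X, ∃ n : ℤ, c = PicGrp.cls L hL.1 ^ n) {M : X.Modules} (hM : PicF.IsInvertible M)
    {j : ℤ} (h : a₁ k L M = a₁ k L (Coh.structureModule X) + j * a₂ k L (Coh.structureModule X)) :
    PicGrp.cls M hM = PicGrp.cls L hL.1 ^ j := by
  obtain ⟨n, hn⟩ := hgen (PicGrp.cls M hM)
  obtain ⟨-, h1⟩ := invariants_of_cls (k := k) hdim hL hM n hn
  have hA := pos_a₂_unit (k := k) hdim hL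
  have h2 : ((n : ℚ) - j) * a₂ k L (Coh.structureModule X) = 0 := by linarith
  have h3 : (n : ℚ) = j := by linarith [(mul_eq_zero.1 h2).resolve_right hA.ne']
  rw [hn, show n = j by exact_mod_cast h3]

end Groth.Agent.SurfStab

end
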