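import Groth.Agent.SurfStab.Criterion
import Groth.Agent.Ref1X.FreeLow
import Groth.Agent.InvX.Tensor
import Groth.Agent.LimMod.Exact

/-!
# Rank one torsion-free sheaves on a smooth surface
-/

set_option linter.style.haveILetI false
set_option linter.unusedSectionVars false
set_option backward.isDefEq.respectTransparency false
set_option backward.isDefEq.respectTransparency.types false

universe u

open CategoryTheory CategoryTheory.Limits AlgebraicGeometry Polynomial StabCat TopologicalSpace

noncomputable section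

namespace Groth.Agent.SurfStab

open Groth.Agent Groth.Agent.ShStabLib Groth.Agent.HilbPoly

variable {k : Type u} [Field k] {X : Scheme.{u}} [X.Over (Spec (CommRingCat.of k))]
  [IsProper (X ↘ Spec (CommRingCat.of k))] [IsIntegral X] (hdim : topologicalKrullDim X = 2)

include k hdim in
theorem dim_le_zero_of_coheight {Z : Set X} (hZ : IsClosed Z) (h : ∀ z ∈ Z, 2 ≤ Order.coheight z) :
    topologicalKrullDim ↥Z ≤ 0 := by
  let f := X ↘ Spec (CommRingCat.of k)
  rw [VarDim.topologicalKrullDim_set_eq_iSup_deg f hZ]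
  refine iSup_le fun z => ?_
  obtain ⟨b, hb, ⟨η, -, hd⟩, -⟩ := VarDim.exists_deg_add_stalk f z.1
  have h2 : VarDim.deg f η ≤ 2 := by
    have h' := topologicalKrullDim_subspace_le X (closure ({η} : Set X))
    rw [VarDim.topologicalKrullDim_closure_singleton f η, hdim] at h'
    have h'' : ((VarDim.deg f η : ℕ) : WithBot ℕ∞) ≤ ((2 : ℕ) : WithBot ℕ∞) := h'
    exact_mod_cast h''
  rw [ringKrullDim_stalk_eq_coheight] at hb
  have hb2 : 2 ≤ b := by
    have hb' : Order.coheight z.1 = b := by exact_mod_cast hb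
    have := h _ z.2
    rw [hb'] at this
    exact_mod_cast this
  have h0 : VarDim.deg f z.1 = 0 := by omega
  rw [h0]
  rfl

include hdim in
/-- A torsion-free sheaf of rank one is an invertible sheaf up to finite colength. -/
theorem exists_invertible_envelope [Smooth (X ↘ Spec (CommRingCat.of k))] {G : X.Modules} (hG : Coh.IsCoh G)
    (hinj : ∀ x, Function.Injective (Ref1X.gsp G x)) {g : G.presheaf.stalk (genericPoint X)} (hg : Ref1X.IsGen g) :
    ∃ (M : X.Modules) (κ : G ⟶ M), PicF.IsInvertible M ∧ Mono κ ∧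
      topologicalKrullDim ↥(CohB1.support (cokernel κ)) ≤ 0 ∧
      Function.Surjective (RefHull.stalkMapₗ κ (genericPoint X)) := by
  classical
  haveI : IsNoetherian X := CurveCohLib.isNoetherian_of_proper (k := k)
  have hX := normal_of_smooth (k := k) (X := X)
  let M := RefHull.ddual G
  let κ : G ⟶ M := RefHull.bidualMap G
  have hMc : Coh.IsCoh M := RefX.isCoh_dual (RefX.isCoh_dual hG)
  have hMr : RefHull.IsReflexive M := Ref1X.isReflexive_ddual hG
  have hlow : ∀ y : X, Order.coheight y ≤ 1 → Function.Bijective (RefHull.stalkMapₗ κ y) := fun y hy => by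
    haveI : Module.IsTorsionFree (X.presheaf.stalk y) (G.presheaf.stalk y) :=
      (TorLib.isTorsionFree_iff G).2 fun a v hav => by
        letI : Field (X.presheaf.stalk (genericPoint X)) := inferInstanceAs (Field X.functionField)
        have h1 := congrArg (Ref1X.gsp G y) hav
        rw [Ref1X.sp_smul, map_zero] at h1
        rcases smul_eq_zero.1 h1 with h2 | h2
        · exact Or.inl (Ref1X.spR_injective y (h2.trans (map_zero _).symm))
        · exact Or.inr (hinj y (h2.trans (map_zero _).symm))
    refine Ref1X.bidual_bijective_of_free hG y (Ref1X.free_of_dim_le_one' hX hG ?_)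
    rw [ringKrullDim_stalk_eq_coheight]
    exact_mod_cast hy
  have hη := hlow (genericPoint X) (by
    rw [show Order.coheight (genericPoint X) = 0 from Order.coheight_eq_zero.2 fun y _ => genericPoint_specializes y]
    exact zero_le_one)
  have hgM := hg.map κ hη
  have hMinj := Ref1X.gsp_injective hMc hMr
  have hM : PicF.IsInvertible M := InvX.isInvertible_of_frames fun x => by
    haveI := GrpSchLib.isRegularLocalRing_stalk_of_smooth (X ↘ Spec (CommRingCat.of k)) x
    obtain ⟨_, hU⟩ := RegUFD.ufd (X.presheaf.stalk x)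
    haveI := hU
    haveI : Module.IsReflexive (X.presheaf.stalk x) (M.presheaf.stalk x) := (RefX.isReflexive_iff hMc).1 hMr x
    haveI := QCoh.finite_stalk_of_isFT hMc.1 hMc.2 x
    obtain ⟨a₀, ha₀, m₀, hm₀⟩ := Ref1X.exists_smul_eq_gsp hMc.1 x (RefHull.stalkMapₗ κ (genericPoint X) g)
    have hsa₀ : Ref1X.spR X (Ref1X.eta_le x) a₀ ≠ 0 :=
      fun h0 => ha₀ (Ref1X.spR_injective x (h0.trans (map_zero _).symm))
    have hm0 : m₀ ≠ 0 := fun h0 => hsa₀ (hgM.1 (a₂ := 0) (by
      show Ref1X.spR X (Ref1X.eta_le x) a₀ • _ = (0 : X.presheaf.stalk (genericPoint X)) • _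
      rw [hm₀, h0, map_zero, zero_smul]))
    obtain ⟨t, ht⟩ := Ref1X.exists_gen_of_ufd (R := X.presheaf.stalk x) hm0 fun m => by
      obtain ⟨c, hc⟩ := hgM.2 (Ref1X.gsp M x m)
      dsimp only at hc
      obtain ⟨d, hd, r, hr⟩ := Ref1X.exists_smul_eq_gsp (RefX.isCoh_unit (X := X)).1 x (RefX.unitStalk (genericPoint X) c)
      obtain ⟨r, rfl⟩ := (RefX.unitStalk x).surjective r
      rw [Ref1X.sp_unitStalk, ← map_smul, smul_eq_mul] at hr
      have hr' := (RefX.unitStalk (genericPoint X)).injective hr
      refine ⟨d * a₀, r, mul_ne_zero hd ha₀, hMinj x ?_⟩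
      rw [Ref1X.sp_smul, Ref1X.sp_smul, map_mul, ← hm₀, ← hc, ← mul_smul, ← mul_smul, ← hr']
      congr 1
      ring
    obtain ⟨U, hx, e, he, -⟩ := Ref1X.exists_frame_of_gen hMc (x := x) (t := t) ht
    exact ⟨U, hx, e, he⟩
  have hmono : Mono κ := by
    have hst : ∀ x, Function.Injective (RefHull.stalkMapₗ κ x) := fun x a b h => hinj x (hη.1 (by
      rw [← Ref1X.sp_stalkMap κ (Ref1X.eta_le x), ← Ref1X.sp_stalkMap κ (Ref1X.eta_le x), h]))
    exact LimMod.mono_of_stalks κ fun x => (ModuleCat.mono_iff_injective _).2 (hst x)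
  haveI := hmono
  refine ⟨M, κ, hM, hmono, dim_le_zero_of_coheight (k := k) hdim
    (QCoh.isClosed_support_of_ft (QCoh.isCoh_cokernel hG.1 hMc κ).2) fun z hz => ?_, hη.2⟩
  by_contra hc
  refine hz (subsingleton_of_forall_eq 0 fun y => ?_)
  haveI := (DerSch.stalkFunctor X z).map_epi (cokernel.π κ)
  obtain ⟨v, rfl⟩ := (ModuleCat.epi_iff_surjective ((DerSch.stalkFunctor X z).map (cokernel.π κ))).1 inferInstance y
  obtain ⟨w, rfl⟩ := (hlow z (Order.le_of_lt_succ (by
    rw [ENat.succ_def, one_add_one_eq_two]; exact not_le.1 hc))).2 v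
  exact ConcreteCategory.congr_hom (ShortComplex.zero (ShortComplex.map (ShortComplex.mk κ (cokernel.π κ)
    (cokernel.condition κ)) (DerSch.stalkFunctor X z))) w

end Groth.Agent.SurfStab

end
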